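import Cfsg.Agent.LargeFischerJ.Plane

/-!
The planes conjugate to the plane of pairs: there are 567, so the stabiliser has order 34560; it contains
elements of orders three and five fixing no non-trivial element of the pointwise stabiliser.
-/

set_option autoImplicit false
set_option linter.unusedSectionVars false
set_option linter.style.haveILetI false
set_option maxHeartbeats 1000000

namespace CfsgLib.LargeFischerJ

open Cfsg CfsgLib.LargeFischer

theorem perp_two : ∀ a a' : W, bW a (1, 0) + bW a' (1, 0) = 0 →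
    bW a (rW (1, 0)) + bW a' (rW (1, 0)) = 0 → a = a' := by
  decide +kernel

variable {G : Type*} [Group G] [Finite G] {z : G} {Q : Subgroup (Cz z)} [Q.Normal] {D : Data z Q}

/-- A totally singular stable subgroup of order 64. -/
structure GoodPlane (D : Data z Q) (S : AddSubgroup (QV Q)) : Prop where
  card : Nat.card S = 64
  sing : ∀ v ∈ S, qf D.hS v = 0
  xst : XStable D S

/-- The image of a subgroup. -/
noncomputable def movePlane (h : Cz z ⧸ Q) (S : AddSubgroup (QV Q)) : AddSubgroup (QV Q) :=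
  S.map (act h).toAddMonoidHom

theorem mem_movePlane {h : Cz z ⧸ Q} {S : AddSubgroup (QV Q)} {v : QV Q} :
    v ∈ movePlane h S ↔ ∃ u ∈ S, act h u = v := Iff.rfl

theorem movePlane_mul (D : Data z Q) (a b : Cz z ⧸ Q) (S : AddSubgroup (QV Q)) :
    movePlane (a * b) S = movePlane a (movePlane b S) := by
  ext v
  simp only [mem_movePlane]
  constructor
  · rintro ⟨u, hu, rfl⟩
    exact ⟨_, ⟨u, hu, rfl⟩, (act_mul D.hS a b u).symm⟩
  · rintro ⟨_, ⟨u, hu, rfl⟩, rfl⟩
    exact ⟨u, hu, act_mul D.hS a b u⟩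

theorem movePlane_one (D : Data z Q) (S : AddSubgroup (QV Q)) : movePlane (1 : Cz z ⧸ Q) S = S := by
  ext v
  simp only [mem_movePlane, act_one' D, exists_eq_right]

theorem GoodPlane.move {S : AddSubgroup (QV Q)} (hS : GoodPlane D S) (h : Cz z ⧸ Q) :
    GoodPlane D (movePlane h S) := by
  refine ⟨?_, ?_, ?_⟩
  · rw [← hS.card]
    exact (Nat.card_congr (AddSubgroup.equivMapOfInjective S _ (act h).injective).toEquiv).symm
  · rintro _ ⟨u, hu, rfl⟩
    exact (qf_act D.hS h u).trans (hS.sing u hu)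
  · rintro _ ⟨u, hu, rfl⟩
    by_cases hh : h ∈ D.L
    · exact ⟨xm D u, hS.xst u hu, xm_comm D hh u⟩
    · refine ⟨xm D (xm D u), hS.xst _ (hS.xst u hu), ?_⟩
      show act h (xm D (xm D u)) = xm D (act h u)
      rw [xm_twist D hh, xm_twist D hh, xm_three]

theorem GoodPlane.orth {S : AddSubgroup (QV Q)} (hS : GoodPlane D S) {u v : QV Q} (hu : u ∈ S) (hv : v ∈ S) :
    bf D.hS u v = 0 := by
  unfold bf
  rw [hS.sing _ (S.add_mem hu hv), hS.sing u hu, hS.sing v hv]
  rfl

variable (C : Coords D)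

theorem good_planeS : GoodPlane D (planeS C) :=
  ⟨card_planeS C, fun v hv => by rw [qf_coord C, ← Calc.pairs_of_inU hv]; exact Calc.pairs_par _, planeS_xm C⟩

/-- The monomial element bringing a plane to the plane of pairs. -/
theorem exists_mono (x : Fin 3 × ZMod 3 × ZMod 3) :
    ∃ l : D.L, ∀ v, C.F.coord (act (l : Cz z ⧸ Q) v) = Calc.plMap x.1 x.2.1 x.2.2 (C.F.coord v) := by
  obtain ⟨hs, hd, -⟩ := Calc.plMap_facts
  obtain ⟨l1, h1⟩ := C.F.perm (Calc.plPerm x.1) (Equiv.Perm.mem_alternatingGroup.2 (hs x.1))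
  obtain ⟨l2, h2⟩ := C.F.diag (Calc.plDiag x.2.1 x.2.2) (hd x.2.1 x.2.2)
  refine ⟨l2 * l1, fun v => funext fun i => ?_⟩
  show C.F.coord (D.setting.φ (l2 * l1) v) i = _
  rw [D.setting.φ_mul, h2]
  have h := h1 v ((Calc.plPerm x.1).symm i)
  rw [Equiv.apply_symm_apply] at h
  rw [h]
  rfl

/-- The monomial element of a plane. -/
noncomputable def monoOf (x : Fin 3 × ZMod 3 × ZMod 3) : D.L := (exists_mono C x).choose

/-- The planes through the vector of weight two. -/
noncomputable def planeX (x : Fin 3 × ZMod 3 × ZMod 3) : AddSubgroup (QV Q) :=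
  movePlane ((monoOf C x : Cz z ⧸ Q)⁻¹) (planeS C)

theorem mem_planeX {x : Fin 3 × ZMod 3 × ZMod 3} {v : QV Q} :
    v ∈ planeX C x ↔ C.F.coord v ∈ Calc.plSet x := by
  classical
  have hgood := (good_planeS C).move ((monoOf C x : Cz z ⧸ Q)⁻¹)
  have hsub : ∀ w ∈ Calc.plSet x, C.F.coord.symm w ∈ planeX C x := by
    intro w hw
    obtain ⟨t, -, rfl⟩ := Finset.mem_image.1 hw
    refine ⟨act (monoOf C x : Cz z ⧸ Q) (C.F.coord.symm (Calc.plVec x.1 x.2.1 x.2.2 t)), ?_, ?_⟩
    · show Calc.InU _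
      rw [show act (monoOf C x : Cz z ⧸ Q) = act ((exists_mono C x).choose : Cz z ⧸ Q) from rfl,
        (exists_mono C x).choose_spec, AddEquiv.apply_symm_apply]
      exact Calc.plMap_facts.2.2 x t
    · show act _ (act _ _) = _
      rw [← act_mul D.hS, inv_mul_cancel, act_one' D]
  let f : Calc.plSet x → planeX C x := fun w => ⟨C.F.coord.symm w.1, hsub w.1 w.2⟩
  have hf : Function.Bijective f := by
    haveI : Fintype (planeX C x) := Fintype.ofFinite _
    refine (Fintype.bijective_iff_injective_and_card f).2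
      ⟨fun a b h => Subtype.ext (C.F.coord.symm.injective (congrArg Subtype.val h)), ?_⟩
    rw [← Nat.card_eq_fintype_card, ← Nat.card_eq_fintype_card, Nat.card_eq_finsetCard, Calc.pl_facts.1]
    exact hgood.card.symm
  constructor
  · intro hv
    obtain ⟨w, hw⟩ := hf.2 ⟨v, hv⟩
    rw [show v = C.F.coord.symm w.1 from (congrArg Subtype.val hw).symm, AddEquiv.apply_symm_apply]
    exact w.2
  · intro hv
    simpa using hsub _ hv

theorem planeX_injective : Function.Injective (planeX C) := fun a b h => Calc.pl_facts.2 (Finset.ext fun w => by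
  have ha := mem_planeX C (x := a) (v := C.F.coord.symm w)
  have hb := mem_planeX C (x := b) (v := C.F.coord.symm w)
  rw [AddEquiv.apply_symm_apply] at ha hb
  rw [← ha, ← hb, h])

theorem vBase_mem_planeX (x : Fin 3 × ZMod 3 × ZMod 3) : C.F.coord.symm vBase ∈ planeX C x := by
  rw [mem_planeX, AddEquiv.apply_symm_apply]
  refine Finset.mem_image.2 ⟨((1, 0), 0, 0), Finset.mem_univ _, ?_⟩
  exact (show ∀ x : Fin 3 × ZMod 3 × ZMod 3, Calc.plVec x.1 x.2.1 x.2.2 ((1, 0), 0, 0) = vBase by decide +kernel) x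

/-- A good plane through the vector of weight two is one of the twenty-seven. -/
theorem exists_planeX {S : AddSubgroup (QV Q)} (hS : GoodPlane D S) (h0 : C.F.coord.symm vBase ∈ S) :
    ∃ x, planeX C x = S := by
  classical
  have hbadd : ∀ u w : QV Q, bf D.hS u w = ∑ i, bW (C.F.coord u i) (C.F.coord w i) := fun u w => by
    show D.setting.b u w = _
    rw [polar_eq C.F]
  have h01 : ∀ w ∈ S, C.F.coord w 0 = C.F.coord w 1 := by
    intro w hw
    have e1 := hS.orth hw h0
    have e2 := hS.orth hw (hS.xst _ h0)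
    rw [hbadd, Fin.sum_univ_six] at e1 e2
    rw [coord_xm] at e2
    simp only [Calc.scal, AddEquiv.apply_symm_apply] at e1 e2
    simp [vBase, bW_zero, map_zero] at e1 e2
    exact perp_two _ _ e1 e2
  -- non-zero elements vanishing at two places
  have hker : ∀ a b : Fin 6, ∃ u ∈ S, C.F.coord u ≠ 0 ∧ C.F.coord u a = 0 ∧ C.F.coord u b = 0 := by
    intro a b
    let f : S →+ W × W := AddMonoidHom.mk' (fun v => (C.F.coord v.1 a, C.F.coord v.1 b)) fun u v => by
      rw [AddSubgroup.coe_add, map_add]; rfl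
    have h := f.ker.card_mul_index
    rw [AddSubgroup.index_ker, hS.card] at h
    have h16 : Nat.card f.range ≤ 16 := (Finite.card_subtype_le _).trans (le_of_eq (by simp))
    have : f.ker ≠ ⊥ := fun e => by
      rw [e, AddSubgroup.card_bot] at h
      omega
    obtain ⟨⟨u, hu⟩, hmem, hne⟩ := f.ker.ne_bot_iff_exists_ne_zero.1 this |> fun ⟨⟨u, hu⟩, hne⟩ =>
      (⟨u, hu, fun e => hne (Subtype.ext e)⟩ : ∃ u : S, u ∈ f.ker ∧ u ≠ 0)
    refine ⟨u, hu, fun e => hne (Subtype.ext (C.F.coord.injective (e.trans (map_zero _).symm))), ?_, ?_⟩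
    · exact congrArg Prod.fst (AddMonoidHom.mem_ker.1 hmem)
    · exact congrArg Prod.snd (AddMonoidHom.mem_ker.1 hmem)
  have hpair : ∀ (a b : Fin 6), a ≠ b → ∀ u ∈ S, (∀ i, i ≠ a → i ≠ b → C.F.coord u i = 0) →
      C.F.coord u a ≠ 0 → C.F.coord u b ≠ 0 →
      ∀ w ∈ S, C.F.coord w a = rk (expW (C.F.coord u a) - expW (C.F.coord u b)) (C.F.coord w b) := by
    intro a b hab u hu hz ha hb w hw
    have e1 := hS.orth hw hu
    have e2 := hS.orth hw (hS.xst u hu)
    rw [hbadd, Finset.sum_eq_add a b hab (fun i _ hi => by rw [hz i hi.1 hi.2, (bW_zero _).1])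
      (fun h => absurd (Finset.mem_univ a) h) (fun h => absurd (Finset.mem_univ b) h)] at e1
    rw [hbadd, Finset.sum_eq_add a b hab (fun i _ hi => by
        rw [coord_xm, Calc.scal, hz i hi.1 hi.2, map_zero, (bW_zero _).1])
      (fun h => absurd (Finset.mem_univ a) h) (fun h => absurd (Finset.mem_univ b) h), coord_xm] at e2
    exact Calc.pair_prop _ _ _ _ ha hb e1 e2
  have hpar : ∀ u ∈ S, Calc.par (C.F.coord u) = 0 := fun u hu => (qf_coord C u).symm.trans (hS.sing u hu)
  -- the last pair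
  obtain ⟨u, hu, hne, hu0, hu2⟩ := hker 0 2
  have hu1 : C.F.coord u 1 = 0 := (h01 u hu).symm.trans hu0
  have hw3 : nW (C.F.coord u 3) + nW (C.F.coord u 4) + nW (C.F.coord u 5) = 0 := by
    have h := hpar u hu
    simpa [Calc.par, hu0, hu1, hu2, show nW (0 : W) = 0 from rfl] using h
  have hne3 : (C.F.coord u 3, C.F.coord u 4, C.F.coord u 5) ≠ (0, 0, 0) := fun e => by
    simp only [Prod.mk.injEq] at e
    refine hne (funext fun i => ?_)
    fin_cases i
    exacts [hu0, hu1, hu2, e.1, e.2.1, e.2.2]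
  obtain ⟨j, hj0, hK, hL⟩ : ∃ j : Fin 3, C.F.coord u (Calc.colJ j) = 0 ∧ C.F.coord u (Calc.colK j) ≠ 0 ∧
      C.F.coord u (Calc.colL j) ≠ 0 := by
    rcases Calc.three_weights _ _ _ hw3 hne3 with h | h | h
    exacts [⟨0, h⟩, ⟨1, h⟩, ⟨2, h.1, h.2.2, h.2.1⟩]
  have hidx : ∀ (j : Fin 3) (i : Fin 6), i ≠ Calc.colK j → i ≠ Calc.colL j →
      i = 0 ∨ i = 1 ∨ i = 2 ∨ i = Calc.colJ j := by decide
  have hKL : ∀ j : Fin 3, Calc.colK j ≠ Calc.colL j ∧ (2 : Fin 6) ≠ Calc.colJ j := by decide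
  obtain ⟨q, hq⟩ : ∃ q, ∀ w ∈ S, C.F.coord w (Calc.colK j) = rk q (C.F.coord w (Calc.colL j)) :=
    ⟨_, hpair _ _ (hKL j).1 u hu (fun i h1 h2 => by
      rcases hidx j i h1 h2 with rfl | rfl | rfl | rfl
      exacts [hu0, hu1, hu2, hj0]) hK hL⟩
  -- the middle pair
  obtain ⟨w, hw, hwne, hw0, hwL⟩ := hker 0 (Calc.colL j)
  have hwK : C.F.coord w (Calc.colK j) = 0 := by rw [hq w hw, hwL]; exact rk_one_zero q
  have hw1 : C.F.coord w 1 = 0 := (h01 w hw).symm.trans hw0
  have hidx2 : ∀ (j : Fin 3) (i : Fin 6), i ≠ 2 → i ≠ Calc.colJ j →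
      i = 0 ∨ i = 1 ∨ i = Calc.colK j ∨ i = Calc.colL j := by decide
  have hz2 : ∀ i, i ≠ 2 → i ≠ Calc.colJ j → C.F.coord w i = 0 := fun i h1 h2 => by
    rcases hidx2 j i h1 h2 with rfl | rfl | rfl | rfl
    exacts [hw0, hw1, hwK, hwL]
  obtain ⟨h2ne, hJne⟩ : C.F.coord w 2 ≠ 0 ∧ C.F.coord w (Calc.colJ j) ≠ 0 := by
    have h := hpar w hw
    rw [show Calc.par (C.F.coord w) = ∑ i, nW (C.F.coord w i) by rw [Fin.sum_univ_six]; rfl,
      Finset.sum_eq_add 2 (Calc.colJ j) (hKL j).2 (fun i _ hi => by rw [hz2 i hi.1 hi.2]; rfl)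
        (fun h => absurd (Finset.mem_univ _) h) (fun h => absurd (Finset.mem_univ _) h)] at h
    have key : ∀ a b : W, nW a + nW b = 0 → (a ≠ 0 ∧ b ≠ 0) ∨ (a = 0 ∧ b = 0) := by decide
    refine (key _ _ h).resolve_right fun e => hwne (funext fun i => ?_)
    by_cases e2 : i = 2
    · subst e2; exact e.1
    by_cases eJ : i = Calc.colJ j
    · subst eJ; exact e.2
    exact hz2 i e2 eJ
  obtain ⟨p, hp⟩ : ∃ p, ∀ v ∈ S, C.F.coord v 2 = rk p (C.F.coord v (Calc.colJ j)) :=
    ⟨_, hpair _ _ (hKL j).2 w hw hz2 h2ne hJne⟩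
  refine ⟨(j, p, q), (AddSubgroup.eq_of_le_of_card_ge (fun v hv => (mem_planeX C).2 ?_) ?_).symm⟩
  · exact Finset.mem_image.2 ⟨_, Finset.mem_univ _, Calc.plVec_mem ⟨h01 v hv, hp v hv, hq v hv⟩⟩
  · rw [hS.card, planeX, ((good_planeS C).move _).card]

/-- Good planes with a vector of the small class are conjugate to the plane of pairs. -/
theorem exists_move {S : AddSubgroup (QV Q)} (hS : GoodPlane D S) (hA : ∃ v ∈ S, C.F.InA C.c v) :
    ∃ h : Cz z ⧸ Q, movePlane h (planeS C) = S := by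
  obtain ⟨v, hv, hvA⟩ := hA
  obtain ⟨l, hl⟩ := (C.orbA v (C.F.coord.symm vBase) hvA).2 (Or.inl (by
    rw [AddEquiv.apply_symm_apply]; exact vBase_facts.1))
  obtain ⟨x, hx⟩ := exists_planeX C (hS.move (l : Cz z ⧸ Q)) ⟨v, hv, hl⟩
  refine ⟨(l : Cz z ⧸ Q)⁻¹ * (monoOf C x : Cz z ⧸ Q)⁻¹, ?_⟩
  rw [movePlane_mul D, show movePlane _ (planeS C) = planeX C x from rfl, hx, ← movePlane_mul D, inv_mul_cancel,
    movePlane_one D]

theorem card_classes : Nat.card {v : QV Q // v ∈ planeS C ∧ C.F.InA C.c v} = 18 ∧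
    Nat.card {v : QV Q // v ∈ planeS C ∧ C.F.InB C.c v} = 45 := by
  classical
  have e : ∀ P : QV Q → Prop, Nat.card {v : QV Q // v ∈ planeS C ∧ P v} =
      Nat.card {t : W × W × W // P (planeEquiv C t).1} := fun P =>
    (Nat.card_congr (Equiv.subtypeSubtypeEquivSubtypeInter _ P).symm).trans
      (Nat.card_congr ((planeEquiv C).symm.subtypeEquiv fun v => by rw [Equiv.apply_symm_apply]))
  have hcoord : ∀ t, C.F.coord (planeEquiv C t).1 = Calc.pairs t := fun t => AddEquiv.apply_symm_apply _ _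
  refine ⟨?_, ?_⟩
  · rw [e, Nat.card_eq_fintype_card, Fintype.card_subtype, ← (Calc.pairs_card C.c).1]
    congr 1
    ext t
    simp only [Finset.mem_filter, Finset.mem_univ, true_and]
    rw [inA_iff, hcoord]
  · rw [e, Nat.card_eq_fintype_card, Fintype.card_subtype, ← (Calc.pairs_card C.c).2]
    congr 1
    ext t
    simp only [Finset.mem_filter, Finset.mem_univ, true_and]
    rw [← Bool.not_eq_true, ← hcoord, ← inA_iff]
    constructor
    · intro h
      refine ⟨fun e => C.ne_zero_of (Or.inr h) (C.F.coord.injective ?_), fun hA => C.F.inA_not_inB C.c hA h⟩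
      rw [hcoord, map_zero, e]
      funext i; fin_cases i <;> rfl
    · rintro ⟨hne, hA⟩
      refine (C.cases (by rw [qf_coord C, hcoord]; exact Calc.pairs_par t) fun e => hne ?_).resolve_left hA
      refine Calc.pairs_inj ((hcoord t).symm.trans ?_)
      rw [e, map_zero]
      funext i; fin_cases i <;> rfl

/-- The stabiliser of the plane of pairs. -/
def N0 : Subgroup (Cz z ⧸ Q) where
  carrier := {h | movePlane h (planeS C) = planeS C}
  one_mem' := movePlane_one D _
  mul_mem' := fun {a b} ha hb => by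
    show movePlane (a * b) (planeS C) = planeS C
    rw [movePlane_mul D, hb, ha]
  inv_mem' := fun {a} ha => by
    show movePlane a⁻¹ (planeS C) = planeS C
    conv_lhs => rw [← show movePlane a (planeS C) = planeS C from ha]
    rw [← movePlane_mul D, inv_mul_cancel, movePlane_one D]

theorem mem_N0 {h : Cz z ⧸ Q} : h ∈ N0 C ↔ movePlane h (planeS C) = planeS C := Iff.rfl

theorem mem_N0_of_maps {h : Cz z ⧸ Q} (hh : ∀ v ∈ planeS C, act h v ∈ planeS C) : h ∈ N0 C := by
  refine (AddSubgroup.eq_of_le_of_card_ge ?_ (by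
    rw [((good_planeS C).move h).card, card_planeS C]) : movePlane h (planeS C) = planeS C)
  rintro _ ⟨u, hu, rfl⟩
  exact hh u hu

theorem N0_maps {h : Cz z ⧸ Q} (hh : h ∈ N0 C) {v : QV Q} (hv : v ∈ planeS C) : act h v ∈ planeS C := by
  rw [← show movePlane h (planeS C) = planeS C from hh]
  exact ⟨v, hv, rfl⟩

/-- The stabiliser of the plane of pairs has order 34560. -/
theorem card_N0 : Nat.card (N0 C) = 34560 := by
  classical
  letI : MulAction (Cz z ⧸ Q) (AddSubgroup (QV Q)) :=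
    { smul := movePlane, one_smul := movePlane_one D, mul_smul := fun a b S => movePlane_mul D a b S }
  let O : Set (AddSubgroup (QV Q)) := MulAction.orbit (Cz z ⧸ Q) (planeS C)
  have hst : MulAction.stabilizer (Cz z ⧸ Q) (planeS C) = N0 C := Subgroup.ext fun h => Iff.rfl
  have hO : ∀ S ∈ O, GoodPlane D S := by
    rintro _ ⟨h, rfl⟩
    exact (good_planeS C).move h
  haveI : Finite (AddSubgroup (QV Q)) := Finite.of_injective (fun S => (S : Set (QV Q))) SetLike.coe_injective
  haveI : Fintype O := Fintype.ofFinite _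
  haveI : Fintype {v : QV Q // C.F.InA C.c v} := Fintype.ofFinite _
  have hside1 : Nat.card (Σ S : O, {v : QV Q // v ∈ S.1 ∧ C.F.InA C.c v}) = Nat.card O * 18 := by
    rw [Nat.card_sigma, Finset.sum_congr rfl (fun S _ => ?_), Finset.sum_const, Finset.card_univ, smul_eq_mul,
      ← Nat.card_eq_fintype_card]
    obtain ⟨_, h, rfl⟩ := S
    rw [← (card_classes C).1]
    refine (Nat.card_congr ((act h).toEquiv.subtypeEquiv fun v => ⟨fun hv => ⟨⟨v, hv.1, rfl⟩, C.act_inA h hv.2⟩,
      fun hv => ⟨?_, ?_⟩⟩)).symm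
    · obtain ⟨u, hu, e⟩ := hv.1
      rwa [← (act h).injective e]
    · have := C.act_inA h⁻¹ hv.2
      rwa [show (act h).toEquiv v = act h v from rfl, ← act_mul D.hS, inv_mul_cancel, act_one' D] at this
  have hside2 : Nat.card (Σ v : {v : QV Q // C.F.InA C.c v}, {S : O // v.1 ∈ S.1}) = 378 * 27 := by
    rw [Nat.card_sigma, Finset.sum_congr rfl (fun v _ => ?_), Finset.sum_const, Finset.card_univ, smul_eq_mul,
      ← Nat.card_eq_fintype_card, C.F.card_inA]
    obtain ⟨l, hl⟩ := (C.orbA v.1 (C.F.coord.symm vBase) v.2).2 (Or.inl (by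
      rw [AddEquiv.apply_symm_apply]; exact vBase_facts.1))
    have hmem : ∀ S : {S : O // v.1 ∈ S.1}, ∃ x, planeX C x = movePlane (l : Cz z ⧸ Q) S.1.1 := fun S =>
      exists_planeX C ((hO _ S.1.2).move _) ⟨v.1, S.2, hl⟩
    choose f hf using hmem
    have hbij : Function.Bijective f := by
      refine ⟨fun S S' h => ?_, fun x => ?_⟩
      · have e := (hf S).symm.trans ((congrArg (planeX C) h).trans (hf S'))
        have e' := congrArg (movePlane (l : Cz z ⧸ Q)⁻¹) e
        rw [← movePlane_mul D, inv_mul_cancel, movePlane_one D, ← movePlane_mul D, inv_mul_cancel,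
          movePlane_one D] at e'
        exact Subtype.ext (Subtype.ext e')
      · refine ⟨⟨⟨movePlane ((l : Cz z ⧸ Q)⁻¹ * (monoOf C x : Cz z ⧸ Q)⁻¹) (planeS C), _, rfl⟩, ?_⟩, ?_⟩
        · show v.1 ∈ movePlane _ (planeS C)
          rw [movePlane_mul D]
          refine ⟨_, vBase_mem_planeX C x, ?_⟩
          rw [← hl]
          exact (act_mul D.hS _ _ _).symm.trans (by rw [inv_mul_cancel, act_one' D])
        · refine planeX_injective C ((hf _).trans ?_)
          show movePlane _ (movePlane _ (planeS C)) = _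
          rw [← movePlane_mul D, mul_inv_cancel_left]
          rfl
    rw [Nat.card_congr (Equiv.ofBijective f hbij)]
    simp
  have hswap : Nat.card (Σ S : O, {v : QV Q // v ∈ S.1 ∧ C.F.InA C.c v}) =
      Nat.card (Σ v : {v : QV Q // C.F.InA C.c v}, {S : O // v.1 ∈ S.1}) :=
    Nat.card_congr ⟨fun p => ⟨⟨p.2.1, p.2.2.2⟩, ⟨p.1, p.2.2.1⟩⟩, fun p => ⟨p.2.1, ⟨p.1.1, p.2.2, p.1.2⟩⟩,
      fun _ => rfl, fun _ => rfl⟩
  have hidx : (N0 C).index = Nat.card O := by
    rw [← hst, MulAction.index_stabilizer, Nat.card_coe_set_eq]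
  have h := (N0 C).index_mul_card
  rw [hidx, ← D.L.index_mul_card, D.L_index, D.L_card] at h
  have h567 : Nat.card O = 567 := by omega
  rw [h567] at h
  omega

theorem N0_conj {g k : Cz z ⧸ Q} (hg : g ∈ N0 C) (hk : k ∈ K0 C) : g * k * g⁻¹ ∈ K0 C := fun v hv => by
  have h1 : act g⁻¹ v ∈ planeS C := N0_maps C ((N0 C).inv_mem hg) hv
  rw [act_mul D.hS, act_mul D.hS, hk _ h1, ← act_mul D.hS, mul_inv_cancel, act_one' D]

variable (h16 : 16 ≤ Nat.card (K0 C))

include h16 in
/-- An element of order three of the stabiliser moving every non-trivial element of the pointwise stabiliser. -/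
theorem exists_three_fpf : ∃ g ∈ N0 C, g ^ 3 = 1 ∧ ∀ k ∈ K0 C, Commute g k → k = 1 := by
  obtain ⟨hs, hd, hU, -⟩ := Calc.cyc_facts
  obtain ⟨l1, h1⟩ := C.F.perm Calc.cycPerm (Equiv.Perm.mem_alternatingGroup.2 hs)
  obtain ⟨l2, h2⟩ := C.F.diag (Calc.cycDiag C.c) (hd C.c)
  set g : Cz z ⧸ Q := ((l1 * l2 : D.L) : Cz z ⧸ Q) with hg
  have hcg : ∀ v, C.F.coord (act g v) = Calc.cycMap C.c (C.F.coord v) := fun v => funext fun j => by
    show C.F.coord (D.setting.φ (l1 * l2) v) j = _
    have h := h1 (D.setting.φ l2 v) (j + 4)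
    rw [D.setting.φ_mul]
    rw [show Calc.cycPerm (j + 4) = j from (by decide : ∀ j : Fin 6, Calc.cycPerm (j + 4) = j) j] at h
    rw [h, h2]
    rfl
  have hgN : g ∈ N0 C := mem_N0_of_maps C fun v hv => by
    rw [mem_planeS, hcg, ← Calc.pairs_of_inU hv]
    exact hU _ _
  have hg3 : g ^ 3 = 1 := act_faithful D.hS _ fun v => C.F.coord.injective (funext fun j => by
    have key : ∀ (c : ZMod 3) (j : Fin 6),
        Calc.cycDiag c (j + 4) + (Calc.cycDiag c (j + 4 + 4) + Calc.cycDiag c (j + 4 + 4 + 4)) = 0 ∧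
          j + 4 + 4 + 4 = j := by decide
    rw [pow_succ, pow_two, act_mul D.hS, act_mul D.hS, hcg, hcg, hcg]
    show rk _ (rk _ (rk _ (C.F.coord v _))) = _
    rw [← rk_add, ← rk_add, add_assoc, (key C.c j).1, (key C.c j).2]
    rfl)
  refine ⟨g, hgN, hg3, fun k hk hcomm => ?_⟩
  have h0 : codeOf C ⟨k, hk⟩ = 0 := Calc.cyc_moves C.c _
    (((card_K0_and_codes C h16).2 _).1 ⟨_, rfl⟩) fun i a => by
      obtain ⟨v, hv⟩ := C.F.coord.surjective (Pi.single i a)
      have hadd : ∀ u w : Calc.Vec, Calc.cycMap C.c (u + w) = Calc.cycMap C.c u + Calc.cycMap C.c w :=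
        fun u w => funext fun j => RootGeom.rk_map_add _ _ _
      have e : C.F.coord (act g (act k v)) = C.F.coord (act k (act g v)) := by
        rw [← act_mul D.hS, ← act_mul D.hS, hcomm.eq]
      rw [hcg, codeOf_spec C ⟨k, hk⟩, codeOf_spec C ⟨k, hk⟩, hcg, hadd, hv] at e
      exact add_left_cancel e
  exact congrArg Subtype.val (codeOf_injective C (h0.trans (codeOf_one C).symm))

include h16 in
/-- An element of order five of the stabiliser moving every non-trivial element of the pointwise stabiliser. -/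
theorem exists_five_fpf : ∃ g ∈ N0 C, g ^ 5 = 1 ∧ ∀ k ∈ K0 C, Commute g k → k = 1 := by
  classical
  haveI : Fact (Nat.Prime 5) := ⟨by norm_num⟩
  obtain ⟨⟨g, hgN⟩, hg⟩ := exists_prime_orderOf_dvd_card' (G := N0 C) 5 (by rw [card_N0]; norm_num)
  rw [← Subgroup.orderOf_coe] at hg
  simp only at hg
  have hg5 : g ^ 5 = 1 := orderOf_dvd_iff_pow_eq_one.1 (dvd_of_eq hg)
  refine ⟨g, hgN, hg5, ?_⟩
  have hnot : ¬ ∀ k ∈ K0 C, Commute g k := by
    intro hall
    obtain ⟨-, -, -, -, e110, e101, e011⟩ := Calc.even_facts C.c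
    -- the three coordinate hyperplanes
    have hhyp : ∀ (cd : Calc.Code), cd ∈ Calc.evenList C.c → ∀ (f : W × W × W → W),
        (∀ t, f t = 0 → ∃ s, Calc.herm cd s = t) → (∀ s, f (Calc.herm cd s) = 0) →
        ∀ t, f t = 0 → ∀ t', C.F.coord (act g (C.F.coord.symm (Calc.pairs t))) = Calc.pairs t' → f t' = 0 := by
      intro cd hcd f hsurj himg t ht t' ht'
      obtain ⟨⟨k, hk⟩, hkc⟩ := ((card_K0_and_codes C h16).2 cd).2 hcd
      obtain ⟨s, hs⟩ := hsurj t ht
      set v := C.F.coord.symm ![s.1, 0, s.2.1, 0, s.2.2, 0] with hv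
      have hn : nilH k v = C.F.coord.symm (Calc.pairs t) := C.F.coord.injective (by
        rw [coord_nilH C ⟨k, hk⟩, hkc, hv, AddEquiv.apply_symm_apply, AddEquiv.apply_symm_apply, ← hs,
          Calc.nil, Calc.exists_sums])
      have hgn : act g (nilH k v) = nilH k (act g v) := by
        rw [nilH_apply, nilH_apply, map_add, ← act_mul D.hS, ← act_mul D.hS, (hall k hk).eq]
      rw [← hn, hgn, coord_nilH C ⟨k, hk⟩, hkc] at ht'
      rw [← Calc.pairs_inj ht']
      exact himg _
    have hex : ∀ t, ∃ t', C.F.coord (act g (C.F.coord.symm (Calc.pairs t))) = Calc.pairs t' := fun t =>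
      ⟨_, (Calc.pairs_of_inU (N0_maps C hgN (planeS_pairs C t))).symm⟩
    choose T hT using hex
    have p0 := hhyp _ e011 (fun t => t.1) (fun t h => (Calc.diag_images t).1 h) (fun s => (Calc.diag_images s).2.2.2.1)
    have p1 := hhyp _ e101 (fun t => t.2.1) (fun t h => (Calc.diag_images t).2.1 h)
      (fun s => (Calc.diag_images s).2.2.2.2.1)
    have p2 := hhyp _ e110 (fun t => t.2.2) (fun t h => (Calc.diag_images t).2.2.1 h)
      (fun s => (Calc.diag_images s).2.2.2.2.2)
    have hTinj : Function.Injective T := fun a b h => Calc.pairs_inj (C.F.coord.symm.injective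
      ((act g).injective (C.F.coord.injective ((hT a).trans ((congrArg _ h).trans (hT b).symm)))))
    have hT0 : T 0 = 0 := Calc.pairs_inj ((hT 0).symm.trans (by
      have : Calc.pairs (0 : W × W × W) = 0 := by funext i; fin_cases i <;> rfl
      rw [this, map_zero, map_zero, map_zero]))
    have hline : ∀ (ι : W → W × W × W), Function.Injective ι → ι 0 = 0 →
        (∀ a, ∃ b, T (ι a) = ι b) → ∀ a, T (ι a) = ι a := by
      intro ι hι hι0 hb a
      choose β hβ using hb
      have hβ0 : β 0 = 0 := hι ((hβ 0).symm.trans (by rw [hι0, hT0]))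
      have hβinj : Function.Injective β := fun p q h => hι (hTinj ((hβ p).trans ((congrArg ι h).trans (hβ q).symm)))
      have hiter : ∀ n a, C.F.coord (act (g ^ n) (C.F.coord.symm (Calc.pairs (ι a)))) = Calc.pairs (ι (β^[n] a)) := by
        intro n
        induction n with
        | zero => intro a; rw [pow_zero, act_one' D, AddEquiv.apply_symm_apply]; rfl
        | succ n ih =>
          intro a
          rw [pow_succ, act_mul D.hS, Function.iterate_succ_apply, ← ih, ← hβ]
          congr 2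
          exact C.F.coord.injective (by rw [AddEquiv.apply_symm_apply]; exact hT _)
      have h5 : ∀ a, β^[5] a = a := fun a => hι (Calc.pairs_inj (by
        rw [← hiter, hg5, act_one' D, AddEquiv.apply_symm_apply]))
      have key : ∀ β : W → W, β 0 = 0 → Function.Injective β → (∀ a, β^[5] a = a) → ∀ a, β a = a := by
        decide +kernel
      rw [hβ, key β hβ0 hβinj h5]
    have f0 := hline (fun a => (a, 0, 0)) (fun a b h => congrArg Prod.fst h) rfl
      (fun a => ⟨(T (a, 0, 0)).1, Prod.ext rfl (Prod.ext (p1 _ rfl _ (hT _)) (p2 _ rfl _ (hT _)))⟩)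
    have f1 := hline (fun a => (0, a, 0)) (fun a b h => congrArg (fun t => t.2.1) h) rfl
      (fun a => ⟨(T (0, a, 0)).2.1, Prod.ext (p0 _ rfl _ (hT _)) (Prod.ext rfl (p2 _ rfl _ (hT _)))⟩)
    have f2 := hline (fun a => (0, 0, a)) (fun a b h => congrArg (fun t => t.2.2) h) rfl
      (fun a => ⟨(T (0, 0, a)).2.2, Prod.ext (p0 _ rfl _ (hT _)) (Prod.ext (p1 _ rfl _ (hT _)) rfl)⟩)
    have hfix : ∀ t, act g (C.F.coord.symm (Calc.pairs t)) = C.F.coord.symm (Calc.pairs t) := by
      intro t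
      have one : ∀ s, T s = s → act g (C.F.coord.symm (Calc.pairs s)) = C.F.coord.symm (Calc.pairs s) :=
        fun s hs => C.F.coord.injective (by rw [hT, hs, AddEquiv.apply_symm_apply])
      obtain ⟨a, b, d⟩ := t
      rw [show ((a, b, d) : W × W × W) = (a, 0, 0) + ((0, b, 0) + (0, 0, d)) by
        simp only [Prod.mk_add_mk, add_zero, zero_add], pairs_add, pairs_add, map_add, map_add,
        map_add, map_add, one _ (f0 _), one _ (f1 _), one _ (f2 _)]
    have hgK : g ∈ K0 C := fun v hv => by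
      have := hfix (C.F.coord v 0, C.F.coord v 2, C.F.coord v 4)
      rwa [Calc.pairs_of_inU hv, AddEquiv.symm_apply_apply] at this
    have h2 := K0_sq C ⟨g, hgK⟩
    simp only at h2
    have : orderOf g ∣ 2 := orderOf_dvd_iff_pow_eq_one.2 (by rw [pow_two]; exact h2)
    rw [hg] at this
    norm_num at this
  -- the fixed elements form a subgroup of order one or sixteen
  let F : Subgroup (Cz z ⧸ Q) := K0 C ⊓ Subgroup.centralizer {g}
  intro k hk hcomm
  haveI : Fintype (K0 C) := Fintype.ofFinite _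
  let σ : Equiv.Perm (K0 C) :=
    { toFun := fun a => ⟨g * a.1 * g⁻¹, N0_conj C hgN a.2⟩
      invFun := fun a => ⟨g⁻¹ * a.1 * g⁻¹⁻¹, N0_conj C ((N0 C).inv_mem hgN) a.2⟩
      left_inv := fun a => Subtype.ext (by show g⁻¹ * (g * a.1 * g⁻¹) * g⁻¹⁻¹ = a.1; group)
      right_inv := fun a => Subtype.ext (by show g * (g⁻¹ * a.1 * g⁻¹⁻¹) * g⁻¹ = a.1; group) }
  have hpow : ∀ (n : ℕ) (a : K0 C), ((σ ^ n) a).1 = g ^ n * a.1 * (g ^ n)⁻¹ := by
    intro n
    induction n with
    | zero => simp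
    | succ n ih =>
      intro a
      rw [pow_succ', Equiv.Perm.mul_apply]
      show g * ((σ ^ n) a).1 * g⁻¹ = _
      rw [ih, pow_succ' g]
      group
  have hσ : σ ^ 5 ^ 1 = 1 := Equiv.ext fun a => Subtype.ext (by rw [pow_one, hpow, hg5]; simp)
  have hmod := Equiv.Perm.card_compl_support_modEq hσ
  have hfixF : σ.supportᶜ.card = Nat.card F := by
    rw [← Nat.card_eq_finsetCard]
    refine Nat.card_congr
      ⟨fun a => ⟨a.1.1, a.1.2, ?_⟩, fun a => ⟨⟨a.1, a.2.1⟩, ?_⟩, fun _ => rfl, fun _ => rfl⟩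
    · have h : σ a.1 = a.1 := Equiv.Perm.notMem_support.1 (Finset.mem_compl.1 a.2)
      exact Subgroup.mem_centralizer_singleton_iff.2
        ((mul_inv_eq_iff_eq_mul.1 (congrArg Subtype.val h : g * a.1.1 * g⁻¹ = a.1.1)).symm)
    · rw [Finset.mem_compl, Equiv.Perm.notMem_support]
      exact Subtype.ext (mul_inv_eq_iff_eq_mul.2 (Subgroup.mem_centralizer_singleton_iff.1 a.2.2).symm)
  rw [hfixF, ← Nat.card_eq_fintype_card, card_K0 C h16] at hmod
  have hd : Nat.card F ∣ 16 := card_K0 C h16 ▸ Subgroup.card_dvd_of_le inf_le_left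
  have hlt : Nat.card F ≠ 16 := fun e => hnot fun a ha => by
    have hFK : F = K0 C := Subgroup.eq_of_le_of_card_ge inf_le_left (by rw [e, card_K0 C h16])
    exact (Subgroup.mem_centralizer_singleton_iff.1 (show a ∈ F from hFK ▸ ha).2).symm
  have h1 : Nat.card F = 1 := by
    have hm := Nat.mem_divisors.2 ⟨hd, by norm_num⟩
    rw [show Nat.divisors 16 = {1, 2, 4, 8, 16} by decide] at hm
    simp only [Finset.mem_insert, Finset.mem_singleton] at hm
    rw [Nat.ModEq] at hmod
    omega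
  have hkF : k ∈ F := ⟨hk, Subgroup.mem_centralizer_singleton_iff.2 hcomm.eq.symm⟩
  rwa [Subgroup.card_eq_one.1 h1, Subgroup.mem_bot] at hkF

end CfsgLib.LargeFischerJ
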