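import Cfsg.Agent.LargeFischer.SylowElem
import Cfsg.Agent.LargeFischerJ.Orbit

/-!
A Sylow two-subgroup of the centralizer whose largest elementary abelian subgroup meets `Q` in the preimage of
the plane of pairs, and the structure of the normalizer of that subgroup in the centralizer.
-/

set_option autoImplicit false
set_option linter.unusedSectionVars false
set_option linter.style.haveILetI false
set_option maxHeartbeats 1000000

namespace CfsgLib.LargeFischerJ

open Cfsg CfsgLib.LargeFischer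
open scoped Pointwise

theorem matching_weight : ∀ m : Fin 15, (suppW (RootGeom.pairV 0 (RootGeom.matching m 0) (1, 0))).card = 2 := by
  decide +kernel

variable {G : Type*} [Group G] [Finite G] {z : G} {Q : Subgroup (Cz z)} [Q.Normal] {D : Data z Q}

/-- A Sylow subgroup with its largest elementary abelian subgroup in standard position. -/
structure Anchor (C : Coords D) (T1 : Sylow 2 (Cz z)) (B : Subgroup (Cz z)) : Prop where
  le : B ≤ (T1 : Subgroup (Cz z))
  comm : ∀ a ∈ B, ∀ b ∈ B, a * b = b * a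
  sq : ∀ a ∈ B, a ^ 2 = 1
  card : Nat.card B = 2048
  uniq : ∀ E : Subgroup (Cz z), E ≤ (T1 : Subgroup (Cz z)) → (∀ a ∈ E, ∀ b ∈ E, a * b = b * a) →
    (∀ a ∈ E, a ^ 2 = 1) → 2048 ≤ Nat.card E → E = B
  memQ : ∀ q : Q, (q : Cz z) ∈ B ↔ vec q ∈ planeS C
  image : Nat.card (B.map (QuotientGroup.mk' Q)) = 16

theorem exists_anchor (D : Data z Q) :
    ∃ (C : Coords D) (T1 : Sylow 2 (Cz z)) (B : Subgroup (Cz z)), Anchor C T1 B := by
  classical
  haveI : Fact (Nat.Prime 2) := ⟨Nat.prime_two⟩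
  obtain ⟨g, x, hgx, hx⟩ := D.exists_conj
  obtain ⟨C, hones, hc⟩ := D.exists_coords_at hgx hx
  obtain ⟨hB, -⟩ := image_main D hgx hx C
  obtain ⟨T⟩ : Nonempty (Sylow 2 (Cz z)) := inferInstance
  obtain ⟨h, hh⟩ : ∃ h : Cz z, ∀ b ∈ (T : Subgroup (Cz z)),
      (QuotientGroup.mk (h * b * h⁻¹) : Cz z ⧸ Q) ∈ C.stab (vec x) := by
    obtain ⟨P₀⟩ : Nonempty (Sylow 2 (C.stab (vec x))) := inferInstance
    have hf : ∀ n, n % 2 = 1 → (2 ^ 8 * n : ℕ).factorization 2 = 8 := fun n hn => by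
      rw [Nat.factorization_mul (by norm_num) (by omega), Finsupp.add_apply,
        Nat.Prime.factorization_pow (by norm_num), Finsupp.single_eq_same,
        Nat.factorization_eq_zero_of_not_dvd (by omega)]
    have hcard : Nat.card ((P₀ : Subgroup (C.stab (vec x))).map (C.stab (vec x)).subtype) =
        2 ^ (Nat.card (Cz z ⧸ Q)).factorization 2 := by
      rw [Nat.card_congr (Subgroup.equivMapOfInjective _ _ (C.stab (vec x)).subtype_injective).symm.toEquiv,
        P₀.card_eq_multiplicity, C.card_stab (Or.inr hB), C.card_stab_L (m := 5760) (C.card_orbit_B hB) (by norm_num),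
        show Nat.card (Cz z ⧸ Q) = 2 ^ 8 * 76545 by rw [← D.L.card_mul_index, D.L_card, D.L_index]; norm_num,
        show 2 * 5760 = 2 ^ 8 * 45 by norm_num, hf _ rfl, hf _ rfl]
    obtain ⟨P₁, hP₁⟩ := (T.isPGroup'.map (QuotientGroup.mk' Q)).exists_le_sylow
    obtain ⟨k, hk⟩ := MulAction.exists_smul_eq (Cz z ⧸ Q) P₁ (Sylow.ofCard _ hcard)
    obtain ⟨h, rfl⟩ := QuotientGroup.mk_surjective k
    refine ⟨h, fun b hb => ?_⟩
    have hmem : (QuotientGroup.mk (h * b * h⁻¹) : Cz z ⧸ Q) ∈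
        ((Sylow.ofCard _ hcard : Sylow 2 (Cz z ⧸ Q)) : Subgroup (Cz z ⧸ Q)) := by
      rw [← hk]
      exact ⟨QuotientGroup.mk b, hP₁ ⟨b, hb, rfl⟩, by simp⟩
    obtain ⟨p, -, hp⟩ := hmem
    rw [← hp]
    exact p.2
  set T0 : Sylow 2 (Cz z) := h • T with hT0
  have hst0 : ∀ b ∈ (T0 : Subgroup (Cz z)), (QuotientGroup.mk b : Cz z ⧸ Q) ∈ C.stab (vec x) := by
    intro b hb
    rw [hT0] at hb
    obtain ⟨u, hu, rfl⟩ := hb
    exact hh u hu
  obtain ⟨A, hmax, hAcard, -, -⟩ := D.sylow_elem T0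
  set B0 := A.map (T0 : Subgroup (Cz z)).subtype with hB0
  have hAmem : A ∈ maxElementaryAbelianSubgroups 2 (T0 : Subgroup (Cz z)) := by rw [hmax]; exact rfl
  have hB0le : B0 ≤ (T0 : Subgroup (Cz z)) := Subgroup.map_subtype_le A
  have hB0comm : ∀ a ∈ B0, ∀ b ∈ B0, a * b = b * a := by
    rintro _ ⟨a, ha, rfl⟩ _ ⟨b, hb, rfl⟩
    exact congrArg Subtype.val (congrArg Subtype.val (hAmem.1.1.is_comm.comm ⟨a, ha⟩ ⟨b, hb⟩))
  have hB0sq : ∀ a ∈ B0, a ^ 2 = 1 := by
    rintro _ ⟨a, ha, rfl⟩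
    exact congrArg Subtype.val (hAmem.1.2 a ha)
  have hB0card : Nat.card B0 = 2048 := by
    rw [← Nat.card_congr (Subgroup.equivMapOfInjective A _ (Subgroup.subtype_injective _)).toEquiv, hAcard]
    norm_num
  have huniq0 : ∀ E : Subgroup (Cz z), E ≤ (T0 : Subgroup (Cz z)) → (∀ a ∈ E, ∀ b ∈ E, a * b = b * a) →
      (∀ a ∈ E, a ^ 2 = 1) → 2048 ≤ Nat.card E → E = B0 := by
    intro E hE hEc hEs hEn
    have hEel : IsElementaryAbelian 2 (E.subgroupOf (T0 : Subgroup (Cz z))) :=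
      ⟨⟨⟨fun a b => Subtype.ext (Subtype.ext (hEc _ a.2 _ b.2))⟩⟩, fun a ha => Subtype.ext (by
        rw [SubgroupClass.coe_pow]; exact hEs _ ha)⟩
    have hEmem : E.subgroupOf (T0 : Subgroup (Cz z)) ∈
        maxElementaryAbelianSubgroups 2 (T0 : Subgroup (Cz z)) := ⟨hEel, fun E' hE' => by
      refine (hAmem.2 E' hE').trans (le_trans (le_of_eq hAcard) ?_)
      rw [Nat.card_congr (Subgroup.subgroupOfEquivOfLe hE).toEquiv]
      norm_num
      exact hEn⟩
    rw [hmax, Set.mem_singleton_iff] at hEmem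
    rw [hB0, ← hEmem, Subgroup.map_subgroupOf_eq_of_le hE]
  obtain ⟨m, hPW, -, h128, h16⟩ := (C.elem_max hgx hx hones hc B0 hB0comm hB0sq
    fun b hb => hst0 b (hB0le hb)).2 (by rw [hB0card])
  -- the plane of the matching
  let S : AddSubgroup (QV Q) := (WM m).comap C.F.coord.toAddMonoidHom
  have hSmem : ∀ q : Q, (q : Cz z) ∈ B0 ↔ vec q ∈ S := fun q => by
    show q ∈ B0.comap Q.subtype ↔ _
    rw [hPW]
    rfl
  have hSgood : GoodPlane D S := by
    refine ⟨?_, ?_, fun v hv => ?_⟩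
    · let f : B0.comap Q.subtype →* Multiplicative S :=
        MonoidHom.mk' (fun q => Multiplicative.ofAdd ⟨vec q.1, (hSmem q.1).1 q.2⟩) fun a b => by
          rw [← ofAdd_add]; exact congrArg _ (Subtype.ext (vec_mul _ _))
      have hsurj : Function.Surjective f := fun s => by
        obtain ⟨q, hq⟩ := vec_surjective (Multiplicative.toAdd s).1
        exact ⟨⟨q, (hSmem q).2 (hq ▸ (Multiplicative.toAdd s).2)⟩,
          Multiplicative.toAdd.injective (Subtype.ext hq)⟩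
      have h1 := f.ker.card_mul_index
      rw [Subgroup.index_ker, h128, MonoidHom.range_eq_top.2 hsurj, Subgroup.card_top,
        Nat.card_congr Multiplicative.toAdd] at h1
      have hker : Nat.card f.ker = 2 := by
        rw [← D.hS.2.2.1.2]
        refine Nat.card_congr ⟨fun q => ⟨q.1.1, (vec_eq_zero D.hS).1 ?_⟩, fun c => ⟨⟨c.1, (hSmem c.1).2 ?_⟩, ?_⟩,
          fun _ => rfl, fun _ => rfl⟩
        · exact congrArg (fun s => (Multiplicative.toAdd s : S).1) (MonoidHom.mem_ker.1 q.2)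
        · rw [(vec_eq_zero D.hS).2 c.2]; exact zero_mem _
        · exact Multiplicative.toAdd.injective (Subtype.ext ((vec_eq_zero D.hS).2 c.2))
      rw [hker] at h1
      omega
    · intro v hv
      obtain ⟨q, rfl⟩ := vec_surjective v
      have := hB0sq _ ((hSmem q).2 hv)
      exact (qf_eq_zero_iff D.hS q).2 (Subtype.ext (by rw [Subgroup.coe_mul, ← pow_two, this]; rfl))
    · show C.F.coord (xm D v) ∈ WM m
      intro i
      rw [coord_xm]
      exact congrArg rW (hv i)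
  obtain ⟨hq, hmove⟩ := exists_move C hSgood ⟨C.F.coord.symm (RootGeom.pairV 0 (RootGeom.matching m 0) (1, 0)),
    by show C.F.coord _ ∈ WM m; rw [AddEquiv.apply_symm_apply]; exact pairV_mem_WM m 0 _,
    Or.inl (by rw [AddEquiv.apply_symm_apply]; exact matching_weight m)⟩
  obtain ⟨k, rfl⟩ := QuotientGroup.mk_surjective hq
  set T1 : Sylow 2 (Cz z) := k⁻¹ • T0 with hT1
  set cj := (MulAut.conj k⁻¹).toMonoidHom with hcj
  have hcjinj : Function.Injective cj := (MulAut.conj k⁻¹).injective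
  have hT1eq : (T1 : Subgroup (Cz z)) = (T0 : Subgroup (Cz z)).map cj := rfl
  set B := B0.map cj with hBdef
  refine ⟨C, T1, B, ⟨hT1eq ▸ Subgroup.map_mono hB0le, ?_, ?_, ?_, ?_, ?_, ?_⟩⟩
  · rintro _ ⟨a, ha, rfl⟩ _ ⟨b, hb, rfl⟩
    rw [← map_mul, hB0comm a ha b hb, map_mul]
  · rintro _ ⟨a, ha, rfl⟩
    rw [← map_pow, hB0sq a ha, map_one]
  · rw [hBdef, ← Nat.card_congr (Subgroup.equivMapOfInjective B0 cj hcjinj).toEquiv, hB0card]
  · intro E hE hEc hEs hEn
    have hE' := huniq0 (E.comap cj) (fun a ha => by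
      obtain ⟨u, hu, e⟩ := hT1eq ▸ hE ha
      rwa [← hcjinj e]) (fun a ha b hb => hcjinj (by rw [map_mul, map_mul]; exact hEc _ ha _ hb))
      (fun a ha => hcjinj (by rw [map_pow, map_one]; exact hEs _ ha))
      (by rw [show Nat.card (E.comap cj) = Nat.card E from Nat.card_congr
        ((MulAut.conj k⁻¹).toEquiv.subtypeEquiv fun a => Iff.rfl)]; exact hEn)
    rw [hBdef, ← hE']
    exact (Subgroup.map_comap_eq_self_of_surjective (MulAut.conj k⁻¹).surjective E).symm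
  · intro q
    have hmem : ∀ a : Cz z, a ∈ B ↔ k * a * k⁻¹ ∈ B0 := fun a => by
      constructor
      · rintro ⟨u, hu, rfl⟩
        simpa [cj, mul_assoc] using hu
      · intro ha
        exact ⟨_, ha, by simp [cj, mul_assoc]⟩
    rw [hmem, ← conjIn_coe k q, hSmem, ← actC_vec, ← act_mk D.hS]
    constructor
    · intro hv
      rw [← hmove] at hv
      obtain ⟨u, hu, e⟩ := hv
      rwa [← (act (QuotientGroup.mk k : Cz z ⧸ Q)).injective e]
    · intro hv
      rw [← hmove]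
      exact ⟨_, hv, rfl⟩
  · have e : B.map (QuotientGroup.mk' Q) =
        (B0.map (QuotientGroup.mk' Q)).map (MulAut.conj (QuotientGroup.mk k⁻¹ : Cz z ⧸ Q)).toMonoidHom :=
      (Subgroup.map_map (G := Cz z) B0 (QuotientGroup.mk' Q) cj).trans ((congrArg (fun φ => Subgroup.map φ B0)
        (show (QuotientGroup.mk' Q).comp cj =
          (MulAut.conj (QuotientGroup.mk k⁻¹ : Cz z ⧸ Q)).toMonoidHom.comp (QuotientGroup.mk' Q) from
          MonoidHom.ext fun a => rfl)).trans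
        (Subgroup.map_map B0 _ _).symm)
    rw [← h16, e]
    exact (Nat.card_congr (Subgroup.equivMapOfInjective _ _
      (MulAut.conj (QuotientGroup.mk k⁻¹ : Cz z ⧸ Q)).injective).toEquiv).symm

namespace Anchor

variable {C : Coords D} {T1 : Sylow 2 (Cz z)} {B : Subgroup (Cz z)} (hA : Anchor C T1 B)
include hA

theorem map_le_K0 : B.map (QuotientGroup.mk' Q) ≤ K0 C := by
  rintro _ ⟨b, hb, rfl⟩ v hv
  obtain ⟨q, rfl⟩ := vec_surjective v
  show act (QuotientGroup.mk b : Cz z ⧸ Q) (vec q) = vec q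
  rw [act_mk D.hS, actC_vec, show conjIn b q = q from Subtype.ext (by
    rw [conjIn_coe, hA.comm b hb _ ((hA.memQ q).2 hv)]; group)]

theorem sixteen : 16 ≤ Nat.card (K0 C) := hA.image ▸ Subgroup.card_le_of_le hA.map_le_K0

theorem map_eq_K0 : B.map (QuotientGroup.mk' Q) = K0 C :=
  Subgroup.eq_of_le_of_card_ge hA.map_le_K0 (by rw [hA.image, card_K0 C hA.sixteen])

theorem card_comap : Nat.card (B.comap Q.subtype) = 128 := by
  let φ := (QuotientGroup.mk' Q).comp B.subtype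
  have h1 := φ.ker.card_mul_index
  rw [Subgroup.index_ker, MonoidHom.range_comp, Subgroup.range_subtype, hA.image, hA.card] at h1
  have h2 : Nat.card φ.ker = Nat.card (B.comap Q.subtype) :=
    Nat.card_congr ⟨fun a => ⟨⟨a.1.1, (QuotientGroup.eq_one_iff _).1 (MonoidHom.mem_ker.1 a.2)⟩, a.1.2⟩,
      fun a => ⟨⟨a.1.1, a.2⟩, MonoidHom.mem_ker.2 ((QuotientGroup.eq_one_iff _).2 a.1.2)⟩, fun _ => rfl,
      fun _ => rfl⟩
  omega

theorem center_mem {q : Q} (hq : q ∈ Subgroup.center Q) : (q : Cz z) ∈ B :=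
  (hA.memQ q).2 (by rw [(vec_eq_zero D.hS).2 hq]; exact zero_mem _)

/-- An element centralising the part in `Q` lies in the subgroup. -/
theorem mem_of_centralizes {w : Cz z} (hw : ∀ q : Q, (q : Cz z) ∈ B → w * q = q * w) : w ∈ B := by
  haveI : Fact (Nat.Prime 2) := ⟨Nat.prime_two⟩
  have hK : (QuotientGroup.mk w : Cz z ⧸ Q) ∈ K0 C := fun v hv => by
    obtain ⟨q, rfl⟩ := vec_surjective v
    rw [act_mk D.hS, actC_vec, show conjIn w q = q from Subtype.ext (by
      rw [conjIn_coe, hw q ((hA.memQ q).2 hv)]; group)]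
  rw [← hA.map_eq_K0] at hK
  obtain ⟨b, hb, e⟩ := hK
  have hq : b⁻¹ * w ∈ Q := QuotientGroup.eq.1 e
  set BQ := B.comap Q.subtype with hBQ
  have hle : BQ ≤ Subgroup.centralizer (BQ : Set Q) := fun a ha =>
    Subgroup.mem_centralizer_iff.2 fun c hc => Subtype.ext (hA.comm _ hc _ ha)
  have hcc := CfsgLib.ExtraspecialBasic.card_centralizer_mul_card D.hS.2.2.1
    (K := BQ) (fun c hc => hA.center_mem hc)
  rw [D.hS.2.2.2.1, hA.card_comap] at hcc
  have h128 : Nat.card (Subgroup.centralizer (BQ : Set Q)) = 128 :=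
    Nat.eq_of_mul_eq_mul_right (by norm_num) (hcc.trans (by norm_num) : _ = 128 * 128)
  have hKC := Subgroup.eq_of_le_of_card_ge hle (by rw [h128, hA.card_comap])
  have hmem : (⟨_, hq⟩ : Q) ∈ BQ := by
    rw [hKC, Subgroup.mem_centralizer_iff]
    intro u hu
    refine Subtype.ext ?_
    show (u : Cz z) * (b⁻¹ * w) = b⁻¹ * w * (u : Cz z)
    have e1 : (u : Cz z) * b⁻¹ = b⁻¹ * (u : Cz z) := hA.comm _ hu _ (inv_mem hb)
    have e2 : w * (u : Cz z) = (u : Cz z) * w := hw u hu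
    rw [← mul_assoc, e1, mul_assoc, ← e2, mul_assoc]
  simpa using B.mul_mem hb hmem

theorem normalizer_eq : Subgroup.normalizer (B : Set (Cz z)) = (N0 C).comap (QuotientGroup.mk' Q) := by
  ext h
  rw [Subgroup.mem_comap, QuotientGroup.mk'_apply]
  constructor
  · intro hh
    refine mem_N0_of_maps C fun v hv => ?_
    obtain ⟨q, rfl⟩ := vec_surjective v
    rw [act_mk D.hS, actC_vec, ← hA.memQ, conjIn_coe]
    exact (Subgroup.mem_normalizer_iff.1 hh _).1 ((hA.memQ q).2 hv)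
  · intro hh
    have key : ∀ (h : Cz z), (QuotientGroup.mk h : Cz z ⧸ Q) ∈ N0 C → ∀ q : Q, (q : Cz z) ∈ B →
        h * (q : Cz z) * h⁻¹ ∈ B := fun h hh q hq => by
      rw [← conjIn_coe, hA.memQ, ← actC_vec, ← act_mk D.hS]
      exact N0_maps C hh ((hA.memQ q).1 hq)
    have hmap : ∀ (h : Cz z), (QuotientGroup.mk h : Cz z ⧸ Q) ∈ N0 C → ∀ b ∈ B, h * b * h⁻¹ ∈ B := by
      intro h hh b hb
      refine hA.mem_of_centralizes fun q hq => ?_
      have hh' : (QuotientGroup.mk h⁻¹ : Cz z ⧸ Q) ∈ N0 C := by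
        rw [QuotientGroup.mk_inv]; exact (N0 C).inv_mem hh
      have h1 := hA.comm b hb _ (key h⁻¹ hh' q hq)
      calc h * b * h⁻¹ * (q : Cz z) = h * (b * (h⁻¹ * (q : Cz z) * h⁻¹⁻¹)) * h⁻¹ := by group
        _ = h * ((h⁻¹ * (q : Cz z) * h⁻¹⁻¹) * b) * h⁻¹ := by rw [h1]
        _ = (q : Cz z) * (h * b * h⁻¹) := by group
    refine Subgroup.mem_normalizer_iff.2 fun b => ⟨hmap h hh b, fun hb => ?_⟩
    have := hmap h⁻¹ (by rw [QuotientGroup.mk_inv]; exact (N0 C).inv_mem hh) _ hb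
    rwa [show h⁻¹ * (h * b * h⁻¹) * h⁻¹⁻¹ = b by group] at this

theorem card_normalizer : Nat.card (Subgroup.normalizer (B : Set (Cz z))) = 2 ^ 13 * 34560 := by
  rw [hA.normalizer_eq]
  let φ := (QuotientGroup.mk' Q).comp ((N0 C).comap (QuotientGroup.mk' Q)).subtype
  have h1 := φ.ker.card_mul_index
  rw [Subgroup.index_ker, MonoidHom.range_comp, Subgroup.range_subtype,
    Subgroup.map_comap_eq_self_of_surjective (QuotientGroup.mk'_surjective Q), card_N0] at h1
  have h2 : Nat.card φ.ker = Nat.card Q :=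
    Nat.card_congr ⟨fun a => ⟨a.1.1, (QuotientGroup.eq_one_iff _).1 (MonoidHom.mem_ker.1 a.2)⟩,
      fun a => ⟨⟨a.1, show (QuotientGroup.mk a.1 : Cz z ⧸ Q) ∈ N0 C by
        rw [(QuotientGroup.eq_one_iff _).2 a.2]; exact one_mem _⟩,
        MonoidHom.mem_ker.2 ((QuotientGroup.eq_one_iff _).2 a.2)⟩, fun _ => rfl, fun _ => rfl⟩
  rw [h2, D.hS.2.2.2.1] at h1
  rw [← h1]

/-- A lift of an element of order `p` moving every element outside `Q`. -/
theorem exists_lift {p : ℕ} (e : ℕ) (he : 2 ^ 13 * e % p = 1) {g : Cz z ⧸ Q} (hgN : g ∈ N0 C) (hg : g ^ p = 1)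
    (hfree : ∀ k ∈ K0 C, Commute g k → k = 1) :
    ∃ n ∈ Subgroup.normalizer (B : Set (Cz z)), n ^ p = 1 ∧ ∀ b ∈ B, n * b * n⁻¹ * b⁻¹ ∈ Q → b ∈ Q := by
  obtain ⟨n₀, hn₀⟩ := QuotientGroup.mk_surjective g
  have hpow : ∀ m, g ^ m = g ^ (m % p) := fun m => by
    conv_lhs => rw [← Nat.mod_add_div m p]
    rw [pow_add, pow_mul, hg, one_pow, mul_one]
  refine ⟨n₀ ^ 2 ^ 13, ?_, ?_, fun b hb hbQ => ?_⟩
  · rw [hA.normalizer_eq, Subgroup.mem_comap, QuotientGroup.mk'_apply, QuotientGroup.mk_pow, hn₀]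
    exact (N0 C).pow_mem hgN _
  · have hq : n₀ ^ p ∈ Q := (QuotientGroup.eq_one_iff _).1 (by rw [QuotientGroup.mk_pow, hn₀, hg])
    have h : (⟨n₀ ^ p, hq⟩ : Q) ^ 2 ^ 13 = 1 := by
      rw [show 2 ^ 13 = Nat.card Q by rw [D.hS.2.2.2.1]]
      exact pow_card_eq_one'
    rw [← pow_mul, mul_comm, pow_mul]
    exact congrArg (fun q : Q => (q : Cz z)) h
  · set k : Cz z ⧸ Q := QuotientGroup.mk b with hk
    have hkK : k ∈ K0 C := hA.map_le_K0 ⟨b, hb, rfl⟩
    have h1 : (QuotientGroup.mk (n₀ ^ 2 ^ 13 * b * (n₀ ^ 2 ^ 13)⁻¹ * b⁻¹) : Cz z ⧸ Q) = 1 :=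
      (QuotientGroup.eq_one_iff _).2 hbQ
    rw [QuotientGroup.mk_mul, QuotientGroup.mk_mul, QuotientGroup.mk_mul, QuotientGroup.mk_inv,
      QuotientGroup.mk_inv, QuotientGroup.mk_pow, hn₀, ← hk, mul_inv_eq_one, mul_inv_eq_iff_eq_mul] at h1
    have hc : Commute g k := by
      have := (show Commute (g ^ 2 ^ 13) k from h1).pow_left e
      rwa [← pow_mul, hpow, he, pow_one] at this
    exact (QuotientGroup.eq_one_iff _).1 (hfree k hkK hc)

theorem centralizer_index {b : Cz z} (hb : b ∈ B) (hbQ : b ∉ Q) :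
    16 ∣ ((Subgroup.centralizer ({b} : Set (Cz z))).subgroupOf Q).index := by
  set k : Cz z ⧸ Q := QuotientGroup.mk b with hk
  have hkK : k ∈ K0 C := hA.map_le_K0 ⟨b, hb, rfl⟩
  have hk1 : (⟨k, hkK⟩ : K0 C) ≠ 1 := fun e => hbQ ((QuotientGroup.eq_one_iff b).1 (congrArg Subtype.val e))
  have h16 := sixteen_le_range C hA.sixteen hk1
  set Cb := (Subgroup.centralizer ({b} : Set (Cz z))).subgroupOf Q with hCb
  have hconst : ∀ q c : Q, c ∈ Cb → nilH k (vec (q * c)) = nilH k (vec q) := by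
    intro q c hc
    rw [vec_mul, map_add]
    have : nilH k (vec c) = 0 := (nilH_eq_zero D).2 (by
      rw [hk, act_mk D.hS, actC_vec, show conjIn b c = c from Subtype.ext (by
        rw [conjIn_coe, ← Subgroup.mem_centralizer_singleton_iff.1 (Subgroup.mem_subgroupOf.1 hc)]; group)])
    rw [this, add_zero]
  let f : Q ⧸ Cb → (nilH (Q := Q) k).range := fun u => ⟨nilH k (vec u.out), _, rfl⟩
  have hsurj : Function.Surjective f := by
    rintro ⟨_, v, rfl⟩
    obtain ⟨q, rfl⟩ := vec_surjective v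
    refine ⟨QuotientGroup.mk q, Subtype.ext ?_⟩
    obtain ⟨⟨c, hc⟩, e⟩ := QuotientGroup.mk_out_eq_mul Cb q
    show nilH k (vec (QuotientGroup.mk q : Q ⧸ Cb).out) = _
    rw [e]
    exact hconst q c hc
  have hge : 16 ≤ Cb.index := by
    rw [Subgroup.index_eq_card]
    exact h16.trans (Nat.card_le_card_of_surjective f hsurj)
  have hd : Cb.index ∣ 2 ^ 13 := D.hS.2.2.2.1 ▸ Cb.index_dvd_card
  obtain ⟨i, -, hi⟩ := (Nat.dvd_prime_pow Nat.prime_two).1 hd
  rw [hi] at hge ⊢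
  have : 4 ≤ i := by
    by_contra hlt
    interval_cases i <;> norm_num at hge
  exact (pow_dvd_pow 2 this : 2 ^ 4 ∣ 2 ^ i)

end Anchor

end CfsgLib.LargeFischerJ
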