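import Cfsg.Agent.MTwentyThreeUnique.EndgameClass

/-!
Circulants of size eleven over the field with two elements, by first columns: squaring is the doubling of
the exponents, its tenth iterate is the identity, and exactly thirty-three have thirty-third power one.
-/

set_option autoImplicit false

namespace CfsgLib.LargeFischerJ

open CfsgLib.Mathieu CfsgLib.M23Ext CfsgLib.MTwentyThreeUnique.Gl11

/-- The columns of the doubling of exponents. -/
def sqCols : List ℕ := (List.range 11).map fun i => 2 ^ (2 * i % 11)

/-- The first column of the square of a circulant. -/
def sqC (u : ℕ) : ℕ := xorSel sqCols u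

theorem sqC_ok : (allBelow 2048 fun u => xorSel (circ u) u == sqC u) = true := by decide +kernel

theorem sqC_periodic :
    (allBelow 2048 fun u => sqC (sqC (sqC (sqC (sqC (sqC (sqC (sqC (sqC (sqC u))))))))) == u) = true := by
  decide +kernel

/-- The circulants of exponent thirty-three. -/
def rootList : List ℕ :=
  (List.range 2048).filter fun u => xorSel (circ u) (sqC (sqC (sqC (sqC (sqC u))))) == 1

theorem rootList_length : rootList.length = 33 := by decide +kernel

end CfsgLib.LargeFischerJ
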