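import Cfsg.Agent.LargeFischerJ.CircOrders
import Cfsg.Agent.MTwentyFourUnique.Endgame
import Cfsg.Agent.GolayOrbits.IndexPair

/-!
A group of the order of M24 with a faithful representation of dimension eleven over the field with two elements
is isomorphic to M24: it has a Frobenius group of order 253 and an element of order ten normalising a subgroup
of order eleven.  An element of order 23 fixes no non-zero vector, so invariant sets of non-zero vectors have
order divisible by 23.
-/

set_option autoImplicit false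
set_option linter.style.haveILetI false
set_option linter.unusedSectionVars false

namespace CfsgLib.LargeFischerJ

open Cfsg CfsgLib.Mathieu CfsgLib.M23Ext CfsgLib.MTwentyThreeUnique.Gl11 Matrix

theorem pow_conj_pow {K : Type*} [Group K] {a b : K} {i : ℕ} (h : b * a * b⁻¹ = a ^ i) :
    ∀ j : ℕ, b ^ j * a * (b ^ j)⁻¹ = a ^ (i ^ j)
  | 0 => by simp
  | j + 1 => by
    rw [pow_succ' b, _root_.mul_inv_rev, show b * b ^ j * a * ((b ^ j)⁻¹ * b⁻¹) =
      b * (b ^ j * a * (b ^ j)⁻¹) * b⁻¹ by group, pow_conj_pow h j, ← conj_pow, h, ← pow_mul, ← pow_succ']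

section Sylow

variable {K : Type*} [Group K] [Finite K]

/-- An element of prime order whose square does not divide the order of the group. -/
theorem normalizer_data {p : ℕ} (hp : p.Prime) {a : K} (ha : orderOf a = p)
    (hp2 : ¬ p ^ 2 ∣ Nat.card K) :
    ∃ n k : ℕ, k ∣ p - 1 ∧ n % p = 1 ∧
      Nat.card (Subgroup.normalizer (Subgroup.zpowers a : Set K)) =
        Nat.card (Subgroup.centralizer ({a} : Set K)) * k ∧
      Nat.card K = n * (Nat.card (Subgroup.centralizer ({a} : Set K)) * k) ∧
      (k = p - 1 → ∀ i : ℕ, ¬ p ∣ i →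
        ∃ b ∈ Subgroup.normalizer (Subgroup.zpowers a : Set K), b * a * b⁻¹ = a ^ i) := by
  haveI : Fact p.Prime := ⟨hp⟩
  set H := Subgroup.zpowers a with hH
  have hcard : Nat.card H = p := by rw [hH, Nat.card_zpowers, ha]
  have hfac : (Nat.card K).factorization p = 1 := by
    refine le_antisymm ?_ ?_
    · by_contra h
      exact hp2 ((pow_dvd_pow p (by omega : 2 ≤ (Nat.card K).factorization p)).trans (Nat.ordProj_dvd _ _))
    · exact (hp.dvd_iff_one_le_factorization Nat.card_pos.ne').1 (ha ▸ orderOf_dvd_natCard a)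
  let P : Sylow p K := Sylow.ofCard H (by rw [hcard, hfac, pow_one])
  have hP : (P : Subgroup K) = H := Sylow.coe_ofCard H _
  have hn : Nat.card (Sylow p K) % p = 1 := by
    have := card_sylow_modEq_one p K
    rwa [Nat.ModEq, Nat.one_mod_eq_one.2 hp.ne_one] at this
  have hidx : Nat.card (Sylow p K) = (Subgroup.normalizer (H : Set K)).index := by
    rw [P.card_eq_index_normalizer]
    exact congrArg (fun X : Subgroup K => (Subgroup.normalizer (X : Set K)).index) hP
  set N := Subgroup.normalizer (H : Set K) with hN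
  let f := H.normalizerMonoidHom
  haveI : IsCyclic H := isCyclic_of_prime_card hcard
  have haut : Nat.card (MulAut H) = p - 1 := by
    rw [IsCyclic.card_mulAut, hcard, Nat.totient_prime hp]
  have hC : Subgroup.centralizer (H : Set K) = Subgroup.centralizer ({a} : Set K) := by
    rw [hH, Subgroup.zpowers_eq_closure, Subgroup.centralizer_closure]
  have hker : Nat.card f.ker = Nat.card (Subgroup.centralizer ({a} : Set K)) := by
    rw [show f.ker = (Subgroup.centralizer (H : Set K)).subgroupOf N from Subgroup.normalizerMonoidHom_ker H,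
      Nat.card_congr (Subgroup.subgroupOfEquivOfLe (Subgroup.centralizer_le_normalizer _)).toEquiv, hC]
  have hrange : Nat.card f.range ∣ p - 1 := haut ▸ Subgroup.card_subgroup_dvd_card f.range
  have hcN : Nat.card N = Nat.card (Subgroup.centralizer ({a} : Set K)) * Nat.card f.range := by
    rw [← hker, Subgroup.card_eq_card_quotient_mul_card_subgroup f.ker, mul_comm,
      Nat.card_congr (QuotientGroup.quotientKerEquivRange f).toEquiv]
  refine ⟨Nat.card (Sylow p K), Nat.card f.range, hrange, hn, hcN, ?_, ?_⟩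
  · rw [hidx, ← hcN, ← Subgroup.index_mul_card N]
  intro hk i hi
  have htop : f.range = ⊤ := Subgroup.eq_top_of_card_eq _ (by rw [hk, haut])
  let x : H := ⟨a, Subgroup.mem_zpowers a⟩
  have hx : orderOf x = p := by rw [← Subgroup.orderOf_coe, ha]
  have hg : Nat.Coprime (Nat.card H) i := by rw [hcard]; exact hp.coprime_iff_not_dvd.2 hi
  let f' : H →* H := MonoidHom.mk' (fun y => y ^ i) (fun y w => by
    have : Commute y w := Subtype.ext (by
      obtain ⟨⟨_, m, rfl⟩, _, n, rfl⟩ := y, w
      exact (Commute.zpow_zpow_self a m n).eq)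
    exact this.mul_pow i)
  let e : H ≃* H := MulEquiv.ofBijective f' (Nat.Coprime.pow_left_bijective hg)
  obtain ⟨b, hb⟩ : e ∈ f.range := htop ▸ Subgroup.mem_top e
  refine ⟨b, b.2, ?_⟩
  have := congrArg (fun g : MulAut H => ((g x : H) : K)) hb
  simp only [f, Subgroup.normalizerMonoidHom_apply_apply_coe] at this
  exact this.trans (SubmonoidClass.coe_pow x i)

end Sylow

section Rep

variable {K : Type*} [Group K] [Finite K] (hK : Nat.card K = 244823040)
  (rho : K →* GL (Fin 11) (ZMod 2)) (hrho : Function.Injective rho)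

theorem val_pow (g : K) (n : ℕ) : (rho (g ^ n) : M) = (rho g : M) ^ n := by
  rw [map_pow, Units.val_pow_eq_pow_val]

include hK hrho in
theorem exists_twentyThree : ∃ a : K, orderOf a = 23 ∧ fX (rho a : M) = 0 := by
  haveI : Fact (Nat.Prime 23) := ⟨by norm_num⟩
  obtain ⟨a, ha⟩ := exists_prime_orderOf_dvd_card' (G := K) 23 (by rw [hK]; norm_num)
  have ha23 : a ^ 23 = 1 := orderOf_dvd_iff_pow_eq_one.1 (dvd_of_eq ha)
  have hX23 : (rho a : M) ^ 23 = 1 := by rw [← val_pow, ha23, map_one, Units.val_one]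
  have hX1 : (rho a : M) ≠ 1 := by
    intro h
    have : a = 1 := hrho (by rw [map_one]; exact Units.ext h)
    simp [this] at ha
  rcases exists_root hX23 hX1 with h | h
  · exact ⟨a, ha, h⟩
  · refine ⟨a ^ 22, ?_, by rw [val_pow]; exact h⟩
    rw [Nat.Coprime.orderOf_pow (by rw [ha]; norm_num), ha]

/-- An element whose value at the polynomial vanishes fixes no non-zero vector. -/
theorem no_fixed_of_root {X : M} (hf : fX X = 0) {v : V} (hv : X *ᵥ v = v) : v = 0 := by
  have hp : ∀ n : ℕ, X ^ n *ᵥ v = v := by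
    intro n
    induction n with
    | zero => simp
    | succ n ih => rw [pow_succ, ← Matrix.mulVec_mulVec, hv, ih]
  have h : fX X *ᵥ v = 0 := by rw [hf, Matrix.zero_mulVec]
  rw [fX_expand] at h
  simp only [Matrix.add_mulVec, hp, hv, Matrix.one_mulVec] at h
  funext i
  show v i = 0
  have hi := congrFun h i
  simp only [Pi.add_apply, Pi.zero_apply] at hi
  revert hi
  generalize v i = x
  revert x
  decide

include hK hrho in
theorem dvd_card_invariant (S : Set V) (hS : ∀ k : K, ∀ v ∈ S, (rho k : M) *ᵥ v ∈ S) (h0 : (0 : V) ∉ S) :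
    23 ∣ Nat.card S := by
  classical
  haveI : Fact (Nat.Prime 23) := ⟨by norm_num⟩
  obtain ⟨a, ha, hf⟩ := exists_twentyThree hK rho hrho
  have ha23 : a ^ 23 = 1 := orderOf_dvd_iff_pow_eq_one.1 (dvd_of_eq ha)
  let σ : Equiv.Perm S :=
    { toFun := fun v => ⟨(rho a : M) *ᵥ v.1, hS a v.1 v.2⟩
      invFun := fun v => ⟨(rho (a ^ 22) : M) *ᵥ v.1, hS _ v.1 v.2⟩
      left_inv := fun v => Subtype.ext (by
        show (rho (a ^ 22) : M) *ᵥ ((rho a : M) *ᵥ v.1) = v.1
        rw [Matrix.mulVec_mulVec, ← Units.val_mul, ← map_mul, ← pow_succ, ha23, map_one, Units.val_one,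
          Matrix.one_mulVec])
      right_inv := fun v => Subtype.ext (by
        show (rho a : M) *ᵥ ((rho (a ^ 22) : M) *ᵥ v.1) = v.1
        rw [Matrix.mulVec_mulVec, ← Units.val_mul, ← map_mul, ← pow_succ', ha23, map_one, Units.val_one,
          Matrix.one_mulVec]) }
  have hk : ∀ (k : ℕ) (v : S), ((σ ^ k) v).1 = (rho (a ^ k) : M) *ᵥ v.1 := by
    intro k
    induction k with
    | zero => simp
    | succ k ih =>
      intro v
      rw [pow_succ', Equiv.Perm.mul_apply, pow_succ', map_mul, Units.val_mul, ← Matrix.mulVec_mulVec, ← ih]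
      rfl
  have hσ : σ ^ 23 ^ 1 = 1 := Equiv.ext fun v => Subtype.ext (by
    rw [pow_one, hk, ha23, map_one, Units.val_one, Matrix.one_mulVec]; rfl)
  haveI : Fintype S := Fintype.ofFinite S
  have hmod := Equiv.Perm.card_compl_support_modEq hσ
  have hemp : σ.supportᶜ = ∅ := by
    ext v
    simp only [Finset.mem_compl, Equiv.Perm.mem_support, not_not, Finset.notMem_empty, iff_false]
    exact fun hv => h0 (no_fixed_of_root hf (congrArg Subtype.val hv) ▸ v.2)
  rw [hemp, Finset.card_empty, ← Nat.card_eq_fintype_card] at hmod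
  exact Nat.modEq_zero_iff_dvd.1 hmod.symm

include hK hrho in
theorem card_centralizer_twentyThree {a : K} (ha : orderOf a = 23) (hf : fX (rho a : M) = 0) :
    Nat.card (Subgroup.centralizer ({a} : Set K)) = 23 := by
  classical
  set C := Subgroup.centralizer ({a} : Set K) with hC
  letI : MulAction C {v : V // v ≠ 0} :=
    { smul := fun c v => ⟨(rho (c : K) : M) *ᵥ v.1, fun h => v.2 (by
        have h2 := congrArg ((rho (c : K)⁻¹ : M) *ᵥ ·) h
        simpa [Matrix.mulVec_mulVec, ← Units.val_mul, ← map_mul] using h2)⟩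
      one_smul := fun v => Subtype.ext (by
        show (rho ((1 : C) : K) : M) *ᵥ v.1 = v.1
        simp)
      mul_smul := fun c d v => Subtype.ext (by
        show (rho ((c * d : C) : K) : M) *ᵥ v.1 = (rho (c : K) : M) *ᵥ ((rho (d : K) : M) *ᵥ v.1)
        rw [Subgroup.coe_mul, map_mul, Units.val_mul, Matrix.mulVec_mulVec]) }
  have hfree : ∀ v : {v : V // v ≠ 0}, MulAction.stabilizer C v = ⊥ := by
    intro v
    refine (Subgroup.eq_bot_iff_forall _).2 fun c hc => ?_
    have hcv : (rho (c : K) : M) *ᵥ v.1 = v.1 := congrArg Subtype.val (MulAction.mem_stabilizer_iff.1 hc)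
    have hcomm : Commute (rho (c : K) : M) (rho a : M) := by
      rw [Commute, SemiconjBy, ← Units.val_mul, ← Units.val_mul, ← map_mul, ← map_mul,
        Subgroup.mem_centralizer_singleton_iff.1 c.2]
    have hfv : fX (rho a : M) *ᵥ v.1 = 0 := by rw [hf, Matrix.zero_mulVec]
    have hev : ∀ n, Commute (rho (c : K) : M) (ev (rho a : M) n) := fun n =>
      Commute.sum_right _ _ _ fun i _ => (hcomm.pow_right i.val).smul_right _
    have hinj : Function.Injective fun n : Fin 2048 => ev (rho a : M) n.val *ᵥ v.1 := fun p q h => by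
      by_contra hne
      refine ev_mulVec_ne hfv v.2 (n := p.val ^^^ q.val) ?_ (Nat.xor_lt_two_pow (n := 11) p.isLt q.isLt) ?_
      · exact fun h => hne (Fin.ext (Nat.xor_eq_zero_iff.1 h))
      · rw [ev_xor, Matrix.add_mulVec,
          show ev (rho a : M) p.val *ᵥ v.1 = ev (rho a : M) q.val *ᵥ v.1 from h]
        funext i
        rw [Pi.add_apply, Pi.zero_apply, CharTwo.add_self_eq_zero]
    have hbij := (Fintype.bijective_iff_injective_and_card _).2 ⟨hinj, by simp⟩
    have h1 : (rho (c : K) : M) = 1 := ext_cols fun j => by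
      obtain ⟨n, hn⟩ := hbij.2 (vecOf (2 ^ j.val))
      simp only at hn
      rw [Matrix.one_mulVec, ← hn, Matrix.mulVec_mulVec, (hev n.val).eq, ← Matrix.mulVec_mulVec, hcv]
    exact Subtype.ext (hrho (by rw [Subgroup.coe_one, map_one]; exact Units.ext h1))
  have hd : Nat.card C ∣ Nat.card {v : V // v ≠ 0} := by
    haveI : Fintype C := Fintype.ofFinite _
    rw [Nat.card_congr (MulAction.selfEquivSigmaOrbits C {v : V // v ≠ 0}), Nat.card_sigma]
    refine Finset.dvd_sum fun o _ => ?_
    have h := Nat.card_congr (MulAction.orbitEquivQuotientStabilizer C o.out)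
    rw [hfree, Nat.card_congr (QuotientGroup.quotientBot).toEquiv] at h
    exact dvd_of_eq h.symm
  have hV : Nat.card {v : V // v ≠ 0} = 2047 := by
    rw [Nat.card_eq_fintype_card, Fintype.card_subtype_compl, Fintype.card_subtype_eq]
    simp
  have h23 : 23 ∣ Nat.card C := ha ▸
    (Subgroup.orderOf_coe (⟨a, Subgroup.mem_centralizer_singleton_iff.2 rfl⟩ : C)) ▸ orderOf_dvd_natCard _
  have hdK : Nat.card C ∣ Nat.gcd 2047 244823040 := Nat.dvd_gcd (hV ▸ hd) (hK ▸ Subgroup.card_subgroup_dvd_card C)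
  exact Nat.dvd_antisymm (by simpa using hdK) h23

theorem pow_two_cases : ∀ i < 23, i ^ 11 % 23 = 1 → i ≠ 1 → ∃ j < 11, j ≠ 0 ∧ i ^ j % 23 = 2 := by
  decide +kernel

include hK hrho in
theorem exists_frobenius :
    ∃ a b : K, orderOf a = 23 ∧ fX (rho a : M) = 0 ∧ orderOf b = 11 ∧ b * a * b⁻¹ = a ^ 2 := by
  classical
  obtain ⟨a, ha, hf⟩ := exists_twentyThree hK rho hrho
  have hC := card_centralizer_twentyThree hK rho hrho ha hf
  obtain ⟨n, k, hk, hn, hN, hcard, -⟩ := normalizer_data (by norm_num) ha (by rw [hK]; norm_num)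
  rw [hC] at hN hcard
  rw [hK] at hcard
  have hk11 : k = 11 := by
    have hk' : k ∈ Nat.divisors 22 := Nat.mem_divisors.2 ⟨hk, by norm_num⟩
    rw [show Nat.divisors 22 = {1, 2, 11, 22} by decide] at hk'
    simp only [Finset.mem_insert, Finset.mem_singleton] at hk'
    rcases hk' with rfl | rfl | rfl | rfl <;> omega
  subst hk11
  haveI : Fact (Nat.Prime 11) := ⟨by norm_num⟩
  obtain ⟨⟨b, hbN⟩, hb⟩ := exists_prime_orderOf_dvd_card'
    (G := Subgroup.normalizer (Subgroup.zpowers a : Set K)) 11 (by rw [hN]; norm_num)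
  rw [← Subgroup.orderOf_coe] at hb
  simp only at hb
  obtain ⟨i, hi23, hi⟩ : ∃ i < 23, b * a * b⁻¹ = a ^ i := by
    have := (Subgroup.mem_normalizer_iff.1 hbN a).1 (Subgroup.mem_zpowers a)
    obtain ⟨m, hm⟩ := mem_zpowers_iff_mem_range_orderOf.1 this |> Finset.mem_image.1
    exact ⟨m, by simpa [ha] using hm.1, hm.2.symm⟩
  have h1 : i ^ 11 % 23 = 1 := by
    have h := pow_conj_pow hi 11
    rw [orderOf_dvd_iff_pow_eq_one.1 (dvd_of_eq hb), one_mul, inv_one, mul_one] at h
    have h' := pow_inj_mod.1 (show a ^ 1 = a ^ (i ^ 11) by rw [pow_one]; exact h)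
    rw [ha] at h'
    exact h'.symm
  have hi1 : i ≠ 1 := fun h => by
    rw [h, pow_one, mul_inv_eq_iff_eq_mul] at hi
    have hbC : b ∈ Subgroup.centralizer ({a} : Set K) := Subgroup.mem_centralizer_singleton_iff.2 hi
    have hd : 11 ∣ 23 := hC ▸ hb ▸
      (Subgroup.orderOf_coe (⟨b, hbC⟩ : Subgroup.centralizer ({a} : Set K))) ▸ orderOf_dvd_natCard _
    norm_num at hd
  obtain ⟨j, hj, hj0, hj2⟩ := pow_two_cases i hi23 h1 hi1
  refine ⟨a, b ^ j, ha, hf, ?_, ?_⟩
  · rw [Nat.Coprime.orderOf_pow, hb]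
    rw [hb]
    exact (Nat.Prime.coprime_iff_not_dvd (by norm_num)).2 fun h => by
      have := Nat.le_of_dvd (by omega) h; omega
  · rw [pow_conj_pow hi j, ← pow_mod_orderOf, ha, hj2]

/-- A matrix commuting with the cyclic shift is a circulant. -/
theorem exists_circ {Q : M} (hQB : Q * toMat mB = toMat mB * Q) : ∃ u < 2048, Q = toMat (circ u) := by
  obtain ⟨u, hu, hcol⟩ := exists_vecOf (Q *ᵥ vecOf 1)
  obtain ⟨cR, cR0⟩ := rot_checks
  have hcols : ∀ j < 11, Q *ᵥ vecOf (2 ^ j) = vecOf (rot u j) := by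
    intro j
    induction j with
    | zero => intro _; rw [pow_zero, beq_iff_eq.1 (allBelow_iff.1 cR0 u hu), hcol]
    | succ j ih =>
      intro hj
      rw [← shift_cols j (by omega), ← toMat_mulVec mB rfl, Matrix.mulVec_mulVec, hQB,
        ← Matrix.mulVec_mulVec, ih (by omega), toMat_mulVec mB rfl,
        beq_iff_eq.1 (allBelow_iff.1 (allBelow_iff.1 cR j (by omega)) u hu)]
  refine ⟨u, hu, ext_cols fun j => ?_⟩
  rw [hcols j.val j.isLt, col_eq]
  funext i
  show bit _ _ = bit ((circ u).getD j.val 0) i.val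
  refine congrArg (fun n => bit n i.val) ?_
  have : j.val < 11 := j.isLt
  simp [circ, List.getD_eq_getElem?_getD, this]

theorem circ_col {Q : M} (hQB : Q * toMat mB = toMat mB * Q) {u : ℕ} (hu : u < 2048)
    (h : Q *ᵥ vecOf 1 = vecOf u) : Q = toMat (circ u) := by
  obtain ⟨w, hw, rfl⟩ := exists_circ hQB
  rw [toMat_mulVec _ (by simp [circ]),
    show xorSel (circ w) 1 = w from (beq_iff_eq.1 (allBelow_iff.1
      (show (allBelow 2048 fun w => xorSel (circ w) 1 == w) = true by decide +kernel) w hw))] at h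
  rw [eq_of_vecOf_eq hw hu h]

include hK hrho in
theorem card_centralizer_eleven {b : K} (hb : orderOf b = 11) {φ : GL (Fin 11) (ZMod 2)}
    (hB : (rho b : M) * (φ : M) = (φ : M) * toMat mB) :
    Nat.card (Subgroup.centralizer ({b} : Set K)) ∣ 33 := by
  classical
  set C := Subgroup.centralizer ({b} : Set K) with hC
  let π : K →* GL (Fin 11) (ZMod 2) := (MulAut.conj φ⁻¹).toMonoidHom.comp rho
  have hπ : Function.Injective π := (MulAut.conj φ⁻¹).injective.comp hrho
  have hπb : (π b : M) = toMat mB := by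
    rw [show (π b : M) = (↑φ⁻¹ : M) * (rho b : M) * (↑φ : M) by simp [π], mul_assoc, hB, ← mul_assoc,
      Units.inv_mul, one_mul]
  have hcomm : ∀ c : C, (π (c : K) : M) * toMat mB = toMat mB * (π (c : K) : M) := fun c => by
    rw [← hπb, ← Units.val_mul, ← Units.val_mul, ← map_mul, ← map_mul,
      Subgroup.mem_centralizer_singleton_iff.1 c.2]
  have hcol : ∀ c : C, ∃ u < 2048, (π (c : K) : M) = toMat (circ u) := fun c => exists_circ (hcomm c)
  have hlen : ∀ u, (circ u).length = 11 := fun u => by simp [circ]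
  have happ : ∀ u, u < 2048 → toMat (circ u) *ᵥ vecOf 1 = vecOf u := fun u hu => by
    rw [toMat_mulVec _ (hlen u),
      show xorSel (circ u) 1 = u from (beq_iff_eq.1 (allBelow_iff.1
        (show (allBelow 2048 fun w => xorSel (circ w) 1 == w) = true by decide +kernel) u hu))]
  have hlt : ∀ u, sqC u < 2048 := fun u => xorSel_lt (b := 11) sqCols u (by decide +kernel)
  have hsq : ∀ (g : M) u, u < 2048 → g * toMat mB = toMat mB * g → g = toMat (circ u) →
      g * g = toMat (circ (sqC u)) := by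
    intro g u hu hg e
    refine circ_col (by rw [mul_assoc, hg, ← mul_assoc, hg, mul_assoc]) (hlt u) ?_
    rw [← Matrix.mulVec_mulVec, e, happ u hu, toMat_mulVec _ (hlen u),
      beq_iff_eq.1 (allBelow_iff.1 sqC_ok u hu)]
  have hcm : ∀ (c : C) (n : ℕ), (π (c : K) : M) ^ n * toMat mB = toMat mB * (π (c : K) : M) ^ n :=
    fun c n => ((show Commute (π (c : K) : M) (toMat mB) from hcomm c).pow_left n).eq
  have hit : ∀ (c : C) u, u < 2048 → (π (c : K) : M) = toMat (circ u) →
      ∀ n, (π (c : K) : M) ^ 2 ^ n = toMat (circ (sqC^[n] u)) := by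
    intro c u hu e n
    induction n with
    | zero => rw [pow_zero, pow_one]; exact e
    | succ n ih =>
      have hlt' : sqC^[n] u < 2048 := by
        rcases n with _ | n
        · exact hu
        · rw [Function.iterate_succ_apply']; exact hlt _
      rw [pow_succ, pow_mul, pow_two, Function.iterate_succ_apply']
      exact hsq _ _ hlt' (hcm c _) ih
  have hord : ∀ c : C, (c : K) ^ 33 = 1 := fun c => by
    obtain ⟨u, hu, e⟩ := hcol c
    have h := hit c u hu e 10
    rw [show sqC^[10] u = u from (beq_iff_eq.1 (allBelow_iff.1 sqC_periodic u hu) :), ← e] at h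
    have h' : (c : K) ^ 1024 = (c : K) := hπ (Units.ext (by rw [map_pow, Units.val_pow_eq_pow_val]; exact h))
    have h1023 : (c : K) ^ 1023 = 1 := by
      rw [show (1024 : ℕ) = 1023 + 1 from rfl, pow_succ] at h'
      exact mul_right_cancel (b := (c : K)) (by rw [h', one_mul])
    have hd : orderOf (c : K) ∣ Nat.gcd 1023 244823040 :=
      Nat.dvd_gcd (orderOf_dvd_iff_pow_eq_one.2 h1023) (hK ▸ orderOf_dvd_natCard _)
    exact orderOf_dvd_iff_pow_eq_one.1 (by simpa using hd)
  have hroot : ∀ c : C, ∀ u, u < 2048 → (π (c : K) : M) = toMat (circ u) → u ∈ rootList := by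
    intro c u hu e
    rw [rootList, List.mem_filter, List.mem_range]
    refine ⟨hu, beq_iff_eq.2 ?_⟩
    have h32 := hit c u hu e 5
    have h33 : (π (c : K) : M) * (π (c : K) : M) ^ 32 = 1 := by
      rw [← pow_succ', ← Units.val_pow_eq_pow_val, ← map_pow, hord c, map_one, Units.val_one]
    have hlt5 : sqC^[5] u < 2048 := by rw [Function.iterate_succ_apply']; exact hlt _
    have h := congrArg (· *ᵥ vecOf 1) h33
    simp only [show (2 : ℕ) ^ 5 = 32 from rfl] at h32
    rw [← Matrix.mulVec_mulVec, h32, happ _ hlt5, e, toMat_mulVec _ (hlen u), Matrix.one_mulVec] at h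
    exact eq_of_vecOf_eq (xorSel_lt (b := 11) _ _ (by
      intro x hx
      exact (beq_iff_eq.1 (allBelow_iff.1
        (show (allBelow 2048 fun w => (circ w).all (fun r => decide (r < 2048)) == true) = true by
          decide +kernel) u hu) |> List.all_eq_true.1) x hx |> of_decide_eq_true))
      (by norm_num) h
  choose f hf using hcol
  have hinj : Function.Injective fun c : C => (⟨f c, List.mem_toFinset.2 (hroot c (f c) (hf c).1 (hf c).2)⟩ : rootList.toFinset) :=
    fun c d h => Subtype.ext (hπ (Units.ext (by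
      rw [(hf c).2, (hf d).2, show f c = f d from congrArg Subtype.val h])))
  have hle : Nat.card C ≤ 33 := by
    refine (Nat.card_le_card_of_injective _ hinj).trans ?_
    rw [Nat.card_eq_finsetCard]
    exact rootList.toFinset_card_le.trans rootList_length.le
  obtain ⟨q, hq⟩ : 11 ∣ Nat.card C := hb ▸
    (Subgroup.orderOf_coe (⟨b, Subgroup.mem_centralizer_singleton_iff.2 rfl⟩ : C)) ▸ orderOf_dvd_natCard _
  have hq2 : q ≠ 2 := fun h => by
    haveI : Fact (Nat.Prime 2) := ⟨Nat.prime_two⟩
    obtain ⟨c, hc⟩ := exists_prime_orderOf_dvd_card' (G := C) 2 (by rw [hq, h]; norm_num)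
    have h33 : orderOf c ∣ 33 := orderOf_dvd_iff_pow_eq_one.2 (Subtype.ext (hord c))
    rw [hc] at h33
    norm_num at h33
  have hpos : 0 < Nat.card C := Nat.card_pos
  rw [hq] at hle hpos ⊢
  obtain rfl | rfl : q = 1 ∨ q = 3 := by omega
  all_goals norm_num

include hK hrho in
/-- A group of the order of M24 faithful in dimension eleven is M24. -/
theorem nonempty_iso_M24 : Nonempty (K ≃* Cfsg.M24) := by
  obtain ⟨a, b, ha, hf, hb, hab⟩ := exists_frobenius hK rho hrho
  have hY11 : (rho b : M) ^ 11 = 1 := by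
    rw [← val_pow, orderOf_dvd_iff_pow_eq_one.1 (dvd_of_eq hb), map_one, Units.val_one]
  have hYX : (rho b : M) * (rho a : M) = (rho a : M) ^ 2 * (rho b : M) := by
    rw [← val_pow, ← Units.val_mul, ← Units.val_mul, ← map_mul, ← map_mul, ← hab, inv_mul_cancel_right]
  obtain ⟨Φ, hΦ, -, hB⟩ := exists_basis hf hY11 hYX
  obtain ⟨φ, rfl⟩ := hΦ
  have hC := card_centralizer_eleven hK rho hrho hb hB
  obtain ⟨n, k, hk, hn, hN, hcard, hsurj⟩ := normalizer_data (by norm_num) hb (by rw [hK]; norm_num)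
  rw [hK] at hcard
  have hC11 : 11 ∣ Nat.card (Subgroup.centralizer ({b} : Set K)) := hb ▸
    (Subgroup.orderOf_coe (⟨b, Subgroup.mem_centralizer_singleton_iff.2 rfl⟩ :
      Subgroup.centralizer ({b} : Set K))) ▸ orderOf_dvd_natCard _
  have hC' : Nat.card (Subgroup.centralizer ({b} : Set K)) = 11 ∧ k = 10 := by
    have h1 := Nat.mem_divisors.2 ⟨hC, by norm_num⟩
    rw [show Nat.divisors 33 = {1, 3, 11, 33} by decide] at h1
    have h2 : k ∈ Nat.divisors 10 := Nat.mem_divisors.2 ⟨hk, by norm_num⟩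
    rw [show Nat.divisors 10 = {1, 2, 5, 10} by decide] at h2
    simp only [Finset.mem_insert, Finset.mem_singleton] at h1 h2
    generalize Nat.card (Subgroup.centralizer ({b} : Set K)) = c at hcard hC11 h1
    rcases h1 with rfl | rfl | rfl | rfl <;> rcases h2 with rfl | rfl | rfl | rfl <;> omega
  obtain ⟨d, hdN, hd⟩ := hsurj (by rw [hC'.2]) 2 (by norm_num)
  refine CfsgLib.MTwentyFourUnique.isoM24_of_rep hK rho hrho a b (d ^ 11) ha hb ?_ hab ?_
  · have h : orderOf d ∣ 110 := by
      have h' := orderOf_dvd_natCard (⟨d, hdN⟩ : Subgroup.normalizer (Subgroup.zpowers b : Set K))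
      rwa [← Subgroup.orderOf_coe, hN, hC'.1, hC'.2] at h'
    rw [← pow_mul]
    exact orderOf_dvd_iff_pow_eq_one.1 h
  · rw [pow_conj_pow hd 11, ← pow_mod_orderOf, hb, show 2 ^ 11 % 11 = 2 by norm_num]

end Rep

end CfsgLib.LargeFischerJ

namespace CfsgLib.LargeFischerJ

open Cfsg CfsgLib.GolayOrbits CfsgLib.GolayConfig CfsgLib.Mathieu CfsgLib.SporadicOut
open scoped Pointwise

/-- A subgroup of index 276 of a copy of M24 is the stabiliser of a pair of points. -/
theorem pairStab_iso {K : Type*} [Group K] (e : K ≃* ↥Cfsg.M24) {H : Subgroup K} (hH : H.index = 276) :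
    Nonempty (↥H ≃* ↥(Cfsg.M24 ⊓
      MulAction.stabilizer (Equiv.Perm GolayPt) ({none, some 0} : Set GolayPt))) := by
  classical
  obtain ⟨s, hs, hstab⟩ := index_276 (H.map e.toMonoidHom) (by
    rw [← hH]; exact H.index_map_equiv e)
  obtain ⟨a, b, hab, rfl⟩ := Finset.card_eq_two.1 hs
  obtain ⟨σ, hσ, h1, h2⟩ := exists_point_pair hab
  obtain ⟨τ, hτ, h3, h4⟩ := exists_point_pair (show (none : GolayPt) ≠ some 0 by simp)
  let g : ↥Cfsg.M24 := ⟨τ * σ⁻¹, mul_mem hτ (inv_mem hσ)⟩
  have hg : g • ({a, b} : Finset GolayPt) = {none, some 0} := by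
    show (τ * σ⁻¹) • ({a, b} : Finset GolayPt) = _
    rw [Finset.smul_finset_insert, Finset.smul_finset_singleton,
      show (τ * σ⁻¹) • a = τ (σ⁻¹ a) from rfl, show (τ * σ⁻¹) • b = τ (σ⁻¹ b) from rfl,
      ← h1, ← h2, perm_inv_apply, perm_inv_apply, h3, h4]
  set X := MulAction.stabilizer (Equiv.Perm GolayPt) ({none, some 0} : Set GolayPt) with hX
  have hset : X.subgroupOf Cfsg.M24 = MulAction.stabilizer ↥Cfsg.M24 ({none, some 0} : Finset GolayPt) := by
    ext x
    rw [Subgroup.mem_subgroupOf, hX, MulAction.mem_stabilizer_iff, MulAction.mem_stabilizer_iff,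
      ← Finset.coe_inj, Finset.coe_smul_finset]
    simp only [Finset.coe_insert, Finset.coe_singleton]
    rfl
  have e1 : ↥(Cfsg.M24 ⊓ X) ≃* ↥(X.subgroupOf Cfsg.M24) :=
    (Subgroup.subgroupOfEquivOfLe inf_le_left).symm.trans (MulEquiv.subgroupCongr (by
      ext x
      simp [Subgroup.mem_subgroupOf]))
  exact ⟨(e.subgroupMap H).trans ((MulEquiv.subgroupCongr hstab).trans
    ((MulAction.stabilizerEquivStabilizer hg.symm).trans ((MulEquiv.subgroupCongr hset.symm).trans e1.symm)))⟩

end CfsgLib.LargeFischerJ
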