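import Cfsg.Prelude.Def_Transfer
import Cfsg.Agent.LargeFischerJ.MathieuQuot

/-!
The normalizer of an elementary abelian group of order 2048 with a few numerical hypotheses at one of its
elements is an extension by M24 with two orbits.
-/

set_option autoImplicit false
set_option linter.style.haveILetI false
set_option linter.unusedSectionVars false

namespace CfsgLib.LargeFischerJ

open Cfsg Matrix CfsgLib.MTwentyThreeUnique.Gl11
open scoped Pointwise

variable {G : Type*} [Group G] [Finite G]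

/-- The hypotheses at the central involution. -/
structure Layer (z : G) (A R : Subgroup G) : Prop where
  elem : Cfsg.IsElementaryAbelian 2 A
  cardA : Nat.card A = 2048
  z_mem : z ∈ A
  z_ne : z ≠ 1
  cent : Subgroup.centralizer (A : Set G) ≤ A
  fusion : ∀ a ∈ A, ∀ g : G, g * a * g⁻¹ ∈ A →
    ∃ m ∈ Subgroup.normalizer (A : Set G), m * a * m⁻¹ = g * a * g⁻¹
  R_le : R ≤ Subgroup.normalizer (A : Set G) ⊓ Subgroup.centralizer ({z} : Set G)
  R_normal : ∀ h ∈ Subgroup.normalizer (A : Set G) ⊓ Subgroup.centralizer ({z} : Set G),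
    ∀ r ∈ R, h * r * h⁻¹ ∈ R
  z_R : z ∈ R
  cardN : Nat.card (Subgroup.normalizer (A : Set G) ⊓ Subgroup.centralizer ({z} : Set G) : Subgroup G) =
    2 ^ 13 * 34560
  cardAR : Nat.card (A ⊓ R : Subgroup G) = 128
  count : Nat.card {a : G // a ∈ A ⊓ R ∧ IsConj z a} = 91
  swap : ∀ a ∈ A ⊓ R, a ≠ 1 → a ≠ z → ∃ r ∈ R, r * a * r⁻¹ = a * z
  sixteen : ∀ a ∈ A, a ∉ R → 16 ∣ ((Subgroup.centralizer ({a} : Set G)).subgroupOf R).index
  five : ∃ g ∈ Subgroup.normalizer (A : Set G) ⊓ Subgroup.centralizer ({z} : Set G),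
    g ^ 5 = 1 ∧ ∀ a ∈ A, g * a * g⁻¹ * a⁻¹ ∈ R → a ∈ R
  three : ∃ g ∈ Subgroup.normalizer (A : Set G) ⊓ Subgroup.centralizer ({z} : Set G),
    g ^ 3 = 1 ∧ ∀ a ∈ A, g * a * g⁻¹ * a⁻¹ ∈ R → a ∈ R

/-- Conjugation inside a subgroup, as an action. -/
def conjSet (X : Subgroup G) (S : Set G) (hS : ∀ x ∈ X, ∀ a ∈ S, x * a * x⁻¹ ∈ S) : MulAction X S where
  smul x a := ⟨(x : G) * a.1 * (x : G)⁻¹, hS x x.2 a.1 a.2⟩
  one_smul a := Subtype.ext (by show (1 : G) * a.1 * (1 : G)⁻¹ = a.1; group)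
  mul_smul x y a := Subtype.ext (by
    show ((x : G) * y) * a.1 * ((x : G) * y)⁻¹ = (x : G) * ((y : G) * a.1 * (y : G)⁻¹) * (x : G)⁻¹
    group)

theorem conjSet_fix {X : Subgroup G} {S : Set G} (hS : ∀ x ∈ X, ∀ a ∈ S, x * a * x⁻¹ ∈ S) (a : S) (x : X) :
    x ∈ @MulAction.stabilizer X S _ (conjSet X S hS) a ↔ (x : G) ∈ Subgroup.centralizer ({a.1} : Set G) := by
  letI := conjSet X S hS
  rw [MulAction.mem_stabilizer_iff, Subgroup.mem_centralizer_singleton_iff]
  exact ⟨fun h => (mul_inv_eq_iff_eq_mul.1 (congrArg Subtype.val h)),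
    fun h => Subtype.ext (mul_inv_eq_iff_eq_mul.2 h)⟩

/-- An element of prime power one with no fixed point forces divisibility. -/
theorem dvd_of_free {p : ℕ} (hp : p.Prime) {g : G} (hg : g ^ p = 1) {S : Set G}
    (hS : ∀ a ∈ S, g * a * g⁻¹ ∈ S) (hfix : ∀ a ∈ S, g * a * g⁻¹ ≠ a) : p ∣ Nat.card S := by
  classical
  haveI : Fact p.Prime := ⟨hp⟩
  have hpow : ∀ (k : ℕ), ∀ a ∈ S, g ^ k * a * (g ^ k)⁻¹ ∈ S := by
    intro k
    induction k with
    | zero => simp
    | succ k ih =>
      intro a ha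
      rw [pow_succ', _root_.mul_inv_rev, show g * g ^ k * a * ((g ^ k)⁻¹ * g⁻¹) =
        g * (g ^ k * a * (g ^ k)⁻¹) * g⁻¹ by group]
      exact hS _ (ih a ha)
  have hinv : g⁻¹ = g ^ (p - 1) := by
    rw [inv_eq_iff_mul_eq_one, ← pow_succ', Nat.sub_add_cancel hp.one_lt.le, hg]
  let σ : Equiv.Perm S :=
    { toFun := fun a => ⟨g * a.1 * g⁻¹, hS a.1 a.2⟩
      invFun := fun a => ⟨g⁻¹ * a.1 * g, by
        have := hpow (p - 1) a.1 a.2
        rwa [← hinv, inv_inv] at this⟩
      left_inv := fun a => Subtype.ext (by show g⁻¹ * (g * a.1 * g⁻¹) * g = a.1; group)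
      right_inv := fun a => Subtype.ext (by show g * (g⁻¹ * a.1 * g) * g⁻¹ = a.1; group) }
  have hk : ∀ (k : ℕ) (a : S), ((σ ^ k) a).1 = g ^ k * a.1 * (g ^ k)⁻¹ := by
    intro k
    induction k with
    | zero => simp
    | succ k ih =>
      intro a
      rw [pow_succ', Equiv.Perm.mul_apply]
      show g * ((σ ^ k) a).1 * g⁻¹ = _
      rw [ih, pow_succ' g]
      group
  have hσ : σ ^ p ^ 1 = 1 := Equiv.ext fun a => Subtype.ext (by rw [pow_one, hk, hg]; simp)
  haveI : Fintype S := Fintype.ofFinite S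
  have hmod := Equiv.Perm.card_compl_support_modEq hσ
  have hemp : σ.supportᶜ = ∅ := by
    ext a
    simp only [Finset.mem_compl, Equiv.Perm.mem_support, not_not, Finset.notMem_empty, iff_false]
    exact fun h => hfix a.1 a.2 (congrArg Subtype.val h)
  rw [hemp, Finset.card_empty, ← Nat.card_eq_fintype_card] at hmod
  exact Nat.modEq_zero_iff_dvd.1 hmod.symm

namespace Layer

variable {z : G} {A R : Subgroup G} (D : Layer z A R)
include D

theorem comm {a b : G} (ha : a ∈ A) (hb : b ∈ A) : a * b = b * a := by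
  haveI := D.elem.1
  exact congrArg Subtype.val (mul_comm' (⟨a, ha⟩ : A) ⟨b, hb⟩)

theorem conj_mem {m a : G} (hm : m ∈ Subgroup.normalizer (A : Set G)) (ha : a ∈ A) : m * a * m⁻¹ ∈ A :=
  (Subgroup.mem_normalizer_iff.1 hm a).1 ha

theorem mem_R_iff {h a : G}
    (hh : h ∈ Subgroup.normalizer (A : Set G) ⊓ Subgroup.centralizer ({z} : Set G)) :
    h * a * h⁻¹ ∈ R ↔ a ∈ R := by
  refine ⟨fun hr => ?_, fun ha => D.R_normal h hh a ha⟩
  have := D.R_normal h⁻¹ (inv_mem hh) _ hr
  simpa [mul_assoc] using this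

/-- The outer part of an invariant set. -/
theorem dvd_outer (S : Set G) (hSA : S ⊆ A) (hSR : ∀ a ∈ S, a ∉ R)
    (hS : ∀ h ∈ Subgroup.normalizer (A : Set G) ⊓ Subgroup.centralizer ({z} : Set G),
      ∀ a ∈ S, h * a * h⁻¹ ∈ S) : 240 ∣ Nat.card S := by
  classical
  have h16 : 16 ∣ Nat.card S := by
    letI := conjSet R S fun r hr => hS r (D.R_le hr)
    haveI : Fintype S := Fintype.ofFinite S
    rw [Nat.card_congr (MulAction.selfEquivSigmaOrbits R S), Nat.card_sigma]
    refine Finset.dvd_sum fun o _ => ?_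
    rw [Nat.card_congr (MulAction.orbitEquivQuotientStabilizer R o.out), ← Subgroup.index_eq_card,
      show MulAction.stabilizer R o.out = (Subgroup.centralizer ({o.out.1} : Set G)).subgroupOf R from
        Subgroup.ext fun x => conjSet_fix _ o.out x]
    exact D.sixteen _ (hSA o.out.2) (hSR _ o.out.2)
  have hp : ∀ (p : ℕ), p.Prime → (∃ g ∈ Subgroup.normalizer (A : Set G) ⊓ Subgroup.centralizer ({z} : Set G),
      g ^ p = 1 ∧ ∀ a ∈ A, g * a * g⁻¹ * a⁻¹ ∈ R → a ∈ R) → p ∣ Nat.card S := by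
    rintro p hp ⟨g, hgN, hg, hfree⟩
    refine dvd_of_free hp hg (hS g hgN) fun a ha h => hSR a ha (hfree a (hSA ha) ?_)
    rw [h, mul_inv_cancel]
    exact one_mem R
  have h5 := hp 5 (by norm_num) D.five
  have h3 := hp 3 (by norm_num) D.three
  omega

/-- The conjugates of the central involution in the group. -/
def conjs (z : G) (A : Subgroup G) : Set G := {a | a ∈ A ∧ IsConj z a}

omit D in
theorem isConj_conj {m a : G} (h : IsConj z a) : IsConj z (m * a * m⁻¹) :=
  h.trans (isConj_iff.2 ⟨m, rfl⟩)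

theorem count_eq : ∃ j : ℕ, Nat.card (conjs z A) = 91 + 240 * j ∧ 91 + 240 * j < 2048 := by
  classical
  let Z : Set G := {a | a ∈ conjs z A ∧ a ∈ R}
  let O : Set G := {a | a ∈ conjs z A ∧ a ∉ R}
  have hu : conjs z A = Z ∪ O := by
    ext a
    by_cases h : a ∈ R <;> simp [Z, O, h]
  have hd : Disjoint Z O := Set.disjoint_left.2 fun a ha hb => hb.2 ha.2
  have hZ : Nat.card Z = 91 := by
    rw [← D.count]
    exact Nat.card_congr (Equiv.subtypeEquivRight fun a => by
      simp only [Z, conjs, Set.mem_setOf_eq, Subgroup.mem_inf]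
      tauto)
  obtain ⟨j, hj⟩ := D.dvd_outer O (fun a ha => ha.1.1) (fun a ha => ha.2) (fun h hh a ha =>
    ⟨⟨D.conj_mem hh.1 ha.1.1, isConj_conj ha.1.2⟩, fun hr => ha.2 ((D.mem_R_iff hh).1 hr)⟩)
  have hc : Nat.card (conjs z A) = 91 + 240 * j := by
    rw [hu, Nat.card_coe_set_eq, Set.ncard_union_eq hd, ← Nat.card_coe_set_eq, ← Nat.card_coe_set_eq, hZ, hj]
  refine ⟨j, hc, hc ▸ ?_⟩
  rw [← D.cardA, ← SetLike.coe_sort_coe, Nat.card_coe_set_eq, Nat.card_coe_set_eq]
  exact Set.ncard_lt_ncard ⟨fun a ha => ha.1, fun h => by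
    obtain ⟨c, hc⟩ := isConj_iff.1 (h (one_mem A)).2
    exact D.z_ne (conj_eq_one_iff.1 hc)⟩ (Set.toFinite _)

/-- The order of the normalizer. -/
theorem card_normalizer :
    Nat.card (Subgroup.normalizer (A : Set G)) = Nat.card (conjs z A) * (2 ^ 13 * 34560) := by
  classical
  letI := conjSet (Subgroup.normalizer (A : Set G)) (conjs z A)
    fun m hm a ha => ⟨D.conj_mem hm ha.1, isConj_conj ha.2⟩
  let w : conjs z A := ⟨z, D.z_mem, IsConj.refl z⟩
  have horb : MulAction.orbit (Subgroup.normalizer (A : Set G)) w = Set.univ := by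
    refine Set.eq_univ_of_forall fun a => ?_
    obtain ⟨g, hg⟩ := isConj_iff.1 a.2.2
    obtain ⟨m, hm, h⟩ := D.fusion z D.z_mem g (by rw [hg]; exact a.2.1)
    exact ⟨⟨m, hm⟩, Subtype.ext (h.trans hg)⟩
  have hst : MulAction.stabilizer (Subgroup.normalizer (A : Set G)) w =
      (Subgroup.normalizer (A : Set G) ⊓ Subgroup.centralizer ({z} : Set G)).subgroupOf
        (Subgroup.normalizer (A : Set G)) := Subgroup.ext fun x => by
    refine (conjSet_fix _ w x).trans ?_
    rw [Subgroup.mem_subgroupOf, Subgroup.mem_inf]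
    exact ⟨fun h => ⟨x.2, h⟩, fun h => h.2⟩
  rw [← Subgroup.index_mul_card (MulAction.stabilizer (Subgroup.normalizer (A : Set G)) w),
    MulAction.index_stabilizer, horb, Set.ncard_univ, hst,
    Nat.card_congr (Subgroup.subgroupOfEquivOfLe inf_le_left).toEquiv, D.cardN]

theorem exists_coord : ∃ ι : A → (Fin 11 → ZMod 2), Function.Bijective ι ∧
    ∀ a b, ι (a * b) = ι a + ι b := by
  letI : CommGroup A := { (inferInstance : Group A) with mul_comm := fun a b => Subtype.ext (D.comm a.2 b.2) }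
  letI : Module (ZMod 2) (Additive A) := AddCommGroup.zmodModule fun a => by
    rw [two_nsmul]
    have h := D.elem.2 (Additive.toMul a : A) (Additive.toMul a : A).2
    rw [pow_two] at h
    exact Subtype.ext h
  haveI : Fact (Nat.Prime 2) := ⟨Nat.prime_two⟩
  have hr : Module.finrank (ZMod 2) (Additive A) = 11 := by
    have h := Module.natCard_eq_pow_finrank (K := ZMod 2) (V := Additive A)
    rw [Nat.card_zmod, Nat.card_congr Additive.toMul, D.cardA] at h
    exact (Nat.pow_right_injective le_rfl (show 2 ^ 11 = 2 ^ Module.finrank (ZMod 2) (Additive A) by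
      norm_num; exact h)).symm
  let e := (Module.finBasisOfFinrankEq (ZMod 2) (Additive A) hr).equivFun
  exact ⟨fun a => e (Additive.ofMul a), e.bijective.comp Additive.ofMul.bijective, fun a b => by
    show e (Additive.ofMul (a * b)) = _
    rw [ofMul_mul, map_add]⟩

/-- The representation on the group. -/
theorem exists_rep : ∃ (ι : A → (Fin 11 → ZMod 2))
    (rho : Subgroup.normalizer (A : Set G) →* GL (Fin 11) (ZMod 2)),
    Function.Bijective ι ∧ (∀ a : A, ι a = 0 → a = 1) ∧ rho.ker = A.subgroupOf _ ∧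
      ∀ (m : Subgroup.normalizer (A : Set G)) (a : A),
        (rho m : M) *ᵥ ι a = ι ⟨(m : G) * a * (m : G)⁻¹, D.conj_mem m.2 a.2⟩ := by
  obtain ⟨ι, hbij, hι⟩ := D.exists_coord
  have h1 : ι 1 = 0 := by simpa using hι 1 1
  let e := Equiv.ofBijective ι hbij
  let cj : Subgroup.normalizer (A : Set G) → A → A := fun m a => ⟨(m : G) * a * (m : G)⁻¹, D.conj_mem m.2 a.2⟩
  have hcj : ∀ m a b, cj m (a * b) = cj m a * cj m b := fun m a b => Subtype.ext (by
    show (m : G) * ((a : G) * b) * (m : G)⁻¹ = ((m : G) * a * (m : G)⁻¹) * ((m : G) * b * (m : G)⁻¹)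
    group)
  let f : Subgroup.normalizer (A : Set G) → ((Fin 11 → ZMod 2) →+ (Fin 11 → ZMod 2)) := fun m =>
    AddMonoidHom.mk' (fun v => ι (cj m (e.symm v))) fun v w => by
      have : e.symm (v + w) = e.symm v * e.symm w := hbij.1 (by
        rw [hι]
        exact (e.apply_symm_apply _).trans (by
          rw [show ι (e.symm v) = v from e.apply_symm_apply v, show ι (e.symm w) = w from e.apply_symm_apply w]))
      show ι _ = ι _ + ι _
      rw [this, hcj, hι]
  let mt : Subgroup.normalizer (A : Set G) → M := fun m =>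
    LinearMap.toMatrix' ((f m).toZModLinearMap 2)
  have hmt : ∀ m a, mt m *ᵥ ι a = ι (cj m a) := fun m a => by
    rw [LinearMap.toMatrix'_mulVec]
    show ι (cj m (e.symm (ι a))) = ι (cj m a)
    rw [show e.symm (ι a) = a from e.symm_apply_apply a]
  let φ : Subgroup.normalizer (A : Set G) →* M :=
    { toFun := mt
      map_one' := ext_cols fun j => by
        obtain ⟨a, ha⟩ := hbij.2 (vecOf (2 ^ j.val))
        rw [← ha, hmt, Matrix.one_mulVec]
        exact congrArg ι (Subtype.ext (by show (1 : G) * a * (1 : G)⁻¹ = a; group))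
      map_mul' := fun m n => ext_cols fun j => by
        obtain ⟨a, ha⟩ := hbij.2 (vecOf (2 ^ j.val))
        rw [← ha, hmt, ← Matrix.mulVec_mulVec, hmt, hmt]
        exact congrArg ι (Subtype.ext (by
          show ((m : G) * n) * a * ((m : G) * n)⁻¹ = (m : G) * ((n : G) * a * (n : G)⁻¹) * (m : G)⁻¹
          group)) }
  refine ⟨ι, φ.toHomUnits, hbij, fun a ha => hbij.1 (ha.trans h1.symm), ?_, hmt⟩
  ext m
  rw [MonoidHom.mem_ker, Subgroup.mem_subgroupOf]
  constructor
  · intro hm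
    refine D.cent (Subgroup.mem_centralizer_iff.2 fun a ha => ?_)
    have hv : mt m = 1 := congrArg Units.val hm
    have h := congrArg Subtype.val (hbij.1 ((hmt m ⟨a, ha⟩).symm.trans (by rw [hv, Matrix.one_mulVec])))
    exact (mul_inv_eq_iff_eq_mul.1 h).symm
  · intro hm
    refine Units.ext (ext_cols fun j => ?_)
    obtain ⟨a, ha⟩ := hbij.2 (vecOf (2 ^ j.val))
    rw [← ha]
    show mt m *ᵥ ι a = _
    rw [hmt, Units.val_one, Matrix.one_mulVec]
    exact congrArg ι (Subtype.ext (mul_inv_eq_iff_eq_mul.2 (D.comm hm a.2)))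

theorem count_admissible : ∀ j < 9, (91 + 240 * j) * 138240 ∣ ∏ i : Fin 11, (2 ^ 11 - 2 ^ i.val) → j = 7 := by
  decide +kernel

theorem normal_subgroupOf : (A.subgroupOf (Subgroup.normalizer (A : Set G))).Normal :=
  Subgroup.normal_in_normalizer

/-- The order, the representation, and the quotient. -/
theorem main : Nat.card (conjs z A) = 1771 ∧ ∃ (ι : A → (Fin 11 → ZMod 2))
    (rho : Subgroup.normalizer (A : Set G) →* GL (Fin 11) (ZMod 2)),
    Function.Bijective ι ∧ (∀ a : A, ι a = 0 → a = 1) ∧ rho.ker = A.subgroupOf _ ∧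
      (∀ (m : Subgroup.normalizer (A : Set G)) (a : A),
        (rho m : M) *ᵥ ι a = ι ⟨(m : G) * a * (m : G)⁻¹, D.conj_mem m.2 a.2⟩) ∧
      Nat.card rho.range = 244823040 := by
  obtain ⟨ι, rho, hbij, h0, hker, hrho⟩ := D.exists_rep
  obtain ⟨j, hj, hlt⟩ := D.count_eq
  have hAcard : Nat.card (A.subgroupOf (Subgroup.normalizer (A : Set G))) = 2048 := by
    rw [Nat.card_congr (Subgroup.subgroupOfEquivOfLe Subgroup.le_normalizer).toEquiv, D.cardA]
  have hmul : 2048 * Nat.card rho.range = (91 + 240 * j) * (2 ^ 13 * 34560) := by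
    rw [← hj, ← D.card_normalizer, ← Nat.card_congr (QuotientGroup.quotientKerEquivRange rho).toEquiv,
      Subgroup.card_eq_card_quotient_mul_card_subgroup rho.ker, mul_comm]
    congr 1
    rw [hker, hAcard]
  have hr : Nat.card rho.range = (91 + 240 * j) * 138240 := by omega
  have hdvd : (91 + 240 * j) * 138240 ∣ ∏ i : Fin 11, (2 ^ 11 - 2 ^ i.val) := by
    rw [← hr]
    have h := Subgroup.card_subgroup_dvd_card rho.range
    rw [Matrix.card_GL_field] at h
    simpa using h
  obtain rfl := D.count_admissible j (by omega) hdvd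
  exact ⟨hj, ι, rho, hbij, h0, hker, hrho, hr⟩

/-- The quotient is M24. -/
theorem iso_M24 : ∃ _ : (A.subgroupOf (Subgroup.normalizer (A : Set G))).Normal,
    Nonempty (↥(Subgroup.normalizer (A : Set G)) ⧸ A.subgroupOf (Subgroup.normalizer (A : Set G)) ≃*
      ↥Cfsg.M24) := by
  obtain ⟨-, ι, rho, -, -, hker, -, hr⟩ := D.main
  haveI := D.normal_subgroupOf
  refine ⟨inferInstance, ?_⟩
  obtain ⟨e⟩ := nonempty_iso_M24 hr rho.range.subtype Subtype.val_injective
  exact ⟨((QuotientGroup.quotientMulEquivOfEq hker.symm).trans (QuotientGroup.quotientKerEquivRange rho)).trans e⟩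

/-- Invariant sets of non-trivial elements have order divisible by 23. -/
theorem dvd_invariant (S : Set G) (hSA : S ⊆ A) (h1 : (1 : G) ∉ S)
    (hS : ∀ m ∈ Subgroup.normalizer (A : Set G), ∀ a ∈ S, m * a * m⁻¹ ∈ S) : 23 ∣ Nat.card S := by
  obtain ⟨-, ι, rho, hbij, h0, -, hrho, hr⟩ := D.main
  let T : Set (Fin 11 → ZMod 2) := ι '' {a : A | (a : G) ∈ S}
  have hT : Nat.card T = Nat.card S := by
    rw [Nat.card_image_of_injective hbij.1]
    exact Nat.card_congr
      ⟨fun a => ⟨a.1.1, a.2⟩, fun a => ⟨⟨a.1, hSA a.2⟩, a.2⟩, fun _ => rfl, fun _ => rfl⟩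
  rw [← hT]
  refine dvd_card_invariant hr rho.range.subtype Subtype.val_injective T ?_ ?_
  · rintro ⟨_, m, rfl⟩ _ ⟨a, ha, rfl⟩
    exact ⟨_, hS m m.2 a ha, (hrho m a).symm⟩
  · rintro ⟨a, ha, h⟩
    rw [h0 a h] at ha
    exact h1 ha

/-- The elements that are not conjugate to the central involution. -/
def others (z : G) (A : Subgroup G) : Set G := {a | a ∈ A ∧ a ≠ 1 ∧ ¬ IsConj z a}

theorem card_others : Nat.card (others z A) = 276 := by
  classical
  have h := D.main.1
  have hu : (A : Set G) = (conjs z A ∪ others z A) ∪ {1} := by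
    ext a
    by_cases h : a = 1
    · subst h; simp [one_mem]
    · by_cases h' : IsConj z a <;> simp [conjs, others, h, h', -isConj_iff]
  have h1 : (1 : G) ∉ conjs z A ∪ others z A := by
    rintro (⟨-, h'⟩ | ⟨-, h', -⟩)
    · obtain ⟨c, hc⟩ := isConj_iff.1 h'
      exact D.z_ne (conj_eq_one_iff.1 hc)
    · exact h' rfl
  have hA := D.cardA
  rw [← SetLike.coe_sort_coe, Nat.card_coe_set_eq, hu, Set.ncard_union_eq (Set.disjoint_singleton_right.2 h1),
    Set.ncard_union_eq (Set.disjoint_left.2 fun a ha hb => hb.2.2 ha.2), Set.ncard_singleton,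
    ← Nat.card_coe_set_eq, ← Nat.card_coe_set_eq, h] at hA
  omega

theorem card_others_inner : Nat.card {a | a ∈ others z A ∧ a ∈ R} = 36 := by
  classical
  let Z : Set G := {a | a ∈ A ⊓ R ∧ IsConj z a}
  let N : Set G := {a | a ∈ others z A ∧ a ∈ R}
  have hu : ((A ⊓ R : Subgroup G) : Set G) = (Z ∪ N) ∪ {1} := by
    ext a
    by_cases h : a = 1
    · subst h; simp [one_mem]
    · by_cases h' : IsConj z a <;> simp [Z, N, others, h, h', -isConj_iff]
  have h1 : (1 : G) ∉ Z ∪ N := by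
    rintro (⟨-, h'⟩ | ⟨⟨-, h', -⟩, -⟩)
    · obtain ⟨c, hc⟩ := isConj_iff.1 h'
      exact D.z_ne (conj_eq_one_iff.1 hc)
    · exact h' rfl
  have hA := D.cardAR
  have hZ : Nat.card Z = 91 := D.count
  rw [← SetLike.coe_sort_coe, Nat.card_coe_set_eq, hu, Set.ncard_union_eq (Set.disjoint_singleton_right.2 h1),
    Set.ncard_union_eq (Set.disjoint_left.2 fun a ha hb => hb.1.2.2 ha.2), Set.ncard_singleton,
    ← Nat.card_coe_set_eq, ← Nat.card_coe_set_eq, hZ] at hA
  show Nat.card N = 36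
  omega

/-- The elements not conjugate to the central involution form one orbit. -/
theorem others_transitive {a b : G} (ha : a ∈ others z A) (hb : b ∈ others z A) :
    ∃ m ∈ Subgroup.normalizer (A : Set G), m * a * m⁻¹ = b := by
  classical
  set N := Subgroup.normalizer (A : Set G) with hN
  have hcl : ∀ m ∈ N, ∀ c ∈ others z A, m * c * m⁻¹ ∈ others z A := fun m hm c hc =>
    ⟨D.conj_mem hm hc.1, fun h => hc.2.1 (conj_eq_one_iff.1 h), fun h => hc.2.2 (by
      have := isConj_conj (m := m⁻¹) h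
      simpa [mul_assoc] using this)⟩
  let O : Set G := {c | ∃ m ∈ N, m * a * m⁻¹ = c}
  have hOsub : O ⊆ others z A := by
    rintro c ⟨m, hm, rfl⟩
    exact hcl m hm a ha
  have hOinv : ∀ m ∈ N, ∀ c ∈ O, m * c * m⁻¹ ∈ O := by
    rintro m hm c ⟨k, hk, rfl⟩
    exact ⟨m * k, mul_mem hm hk, by group⟩
  have h23 : 23 ∣ Nat.card O := D.dvd_invariant O (fun c hc => (hOsub hc).1)
    (fun h => (hOsub h).2.1 rfl) hOinv
  let Oi : Set G := {c | c ∈ O ∧ c ∈ R}
  let Oo : Set G := {c | c ∈ O ∧ c ∉ R}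
  have hsplit : Nat.card O = Nat.card Oi + Nat.card Oo := by
    rw [Nat.card_coe_set_eq, Nat.card_coe_set_eq, Nat.card_coe_set_eq,
      ← Set.ncard_union_eq (Set.disjoint_left.2 fun c hc hd => hd.2 hc.2)]
    congr 1
    ext c
    by_cases h : c ∈ R <;> simp [Oi, Oo, h]
  obtain ⟨q, hq⟩ := D.dvd_outer Oo (fun c hc => (hOsub hc.1).1) (fun c hc => hc.2)
    (fun h hh c hc => ⟨hOinv h hh.1 c hc.1, fun hr => hc.2 ((D.mem_R_iff hh).1 hr)⟩)
  have h2 : 2 ∣ Nat.card Oi := by
    haveI : Fintype Oi := Fintype.ofFinite _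
    have hz2 : z * z = 1 := by
      have h := D.elem.2 z D.z_mem
      rw [pow_two] at h
      exact h
    have hmem : ∀ c ∈ Oi, c * z ∈ Oi := by
      intro c hc
      obtain ⟨r, hr, hrc⟩ := D.swap c ⟨(hOsub hc.1).1, hc.2⟩ (hOsub hc.1).2.1
        (fun h => (hOsub hc.1).2.2 (h ▸ IsConj.refl z))
      exact ⟨hrc ▸ hOinv r (D.R_le hr).1 c hc.1, mul_mem hc.2 D.z_R⟩
    let σ : Equiv.Perm Oi :=
      { toFun := fun c => ⟨c.1 * z, hmem c.1 c.2⟩
        invFun := fun c => ⟨c.1 * z, hmem c.1 c.2⟩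
        left_inv := fun c => Subtype.ext (by show c.1 * z * z = c.1; rw [mul_assoc, hz2, mul_one])
        right_inv := fun c => Subtype.ext (by show c.1 * z * z = c.1; rw [mul_assoc, hz2, mul_one]) }
    haveI : Fact (Nat.Prime 2) := ⟨Nat.prime_two⟩
    have hσ : σ ^ 2 ^ 1 = 1 := Equiv.ext fun c => by
      rw [pow_one, pow_two, Equiv.Perm.mul_apply, Equiv.Perm.one_apply]
      exact σ.left_inv c
    have hmod := Equiv.Perm.card_compl_support_modEq hσ
    have hemp : σ.supportᶜ = ∅ := by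
      ext c
      simp only [Finset.mem_compl, Equiv.Perm.mem_support, not_not, Finset.notMem_empty, iff_false]
      exact fun h => D.z_ne (by simpa [σ, Subtype.ext_iff] using h)
    rw [hemp, Finset.card_empty, ← Nat.card_eq_fintype_card] at hmod
    exact Nat.modEq_zero_iff_dvd.1 hmod.symm
  have hle : Nat.card Oi ≤ 36 := by
    rw [← D.card_others_inner]
    exact Nat.card_mono (Set.toFinite _) fun c hc => ⟨hOsub hc.1, hc.2⟩
  have htot : Nat.card O ≤ 276 := D.card_others ▸ Nat.card_mono (Set.toFinite _) hOsub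
  have hpos : 0 < Nat.card O := by
    haveI : Nonempty O := ⟨⟨a, 1, one_mem _, by group⟩⟩
    exact Nat.card_pos
  have heq : Nat.card O = 276 := by
    obtain rfl | rfl : q = 0 ∨ q = 1 := by omega
    all_goals omega
  have : O = others z A := Set.eq_of_subset_of_ncard_le hOsub (by
    rw [← Nat.card_coe_set_eq, ← Nat.card_coe_set_eq, heq, D.card_others]) (Set.toFinite _)
  exact (this ▸ hb : b ∈ O)

/-- The centralizer of an element not conjugate to the central involution. -/
theorem pair_iso {t : G} (ht : t ∈ others z A) :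
    ∃ _ : (A.subgroupOf (Subgroup.normalizer (A : Set G) ⊓ Subgroup.centralizer ({t} : Set G))).Normal,
    Nonempty (↥(Subgroup.normalizer (A : Set G) ⊓ Subgroup.centralizer ({t} : Set G)) ⧸
        A.subgroupOf (Subgroup.normalizer (A : Set G) ⊓ Subgroup.centralizer ({t} : Set G)) ≃*
      ↥(Cfsg.M24 ⊓ MulAction.stabilizer (Equiv.Perm Cfsg.GolayPt) ({none, some 0} : Set Cfsg.GolayPt))) := by
  classical
  set N := Subgroup.normalizer (A : Set G) with hN
  set C := N ⊓ Subgroup.centralizer ({t} : Set G) with hC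
  haveI hnA := D.normal_subgroupOf
  obtain ⟨_, ⟨e⟩⟩ := D.iso_M24
  let S := C.subgroupOf N
  have hAC : A ≤ C := fun a ha => ⟨Subgroup.le_normalizer ha, Subgroup.mem_centralizer_singleton_iff.2
    (D.comm ha ht.1)⟩
  letI := conjSet N (others z A) fun m hm c hc => ⟨D.conj_mem hm hc.1, fun h => hc.2.1 (conj_eq_one_iff.1 h),
    fun h => hc.2.2 (by
      have := isConj_conj (m := m⁻¹) h
      simpa [mul_assoc] using this)⟩
  let w : others z A := ⟨t, ht⟩
  have hidx : S.index = 276 := by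
    have hst : MulAction.stabilizer N w = S := Subgroup.ext fun x => by
      refine (conjSet_fix _ w x).trans ?_
      rw [Subgroup.mem_subgroupOf, hC, Subgroup.mem_inf]
      exact ⟨fun h => ⟨x.2, h⟩, fun h => h.2⟩
    rw [← hst, MulAction.index_stabilizer,
      show MulAction.orbit N w = Set.univ from Set.eq_univ_of_forall fun c => ?_, Set.ncard_univ, D.card_others]
    obtain ⟨m, hm, h⟩ := D.others_transitive ht c.2
    exact ⟨⟨m, hm⟩, Subtype.ext h⟩
  let q := QuotientGroup.mk' (A.subgroupOf N)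
  have hidx' : (S.map q).index = 276 := by
    rw [Subgroup.index_map_eq _ (QuotientGroup.mk'_surjective _) ?_, hidx]
    rw [QuotientGroup.ker_mk']
    exact fun x hx => hAC hx
  let f : C →* N ⧸ A.subgroupOf N := q.comp (Subgroup.inclusion inf_le_left)
  have hker : f.ker = A.subgroupOf C := by
    ext x
    simp only [f, q, MonoidHom.mem_ker, MonoidHom.comp_apply, QuotientGroup.mk'_apply, QuotientGroup.eq_one_iff,
      Subgroup.mem_subgroupOf]
    rfl
  have hrange : f.range = S.map q := by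
    ext y
    constructor
    · rintro ⟨x, rfl⟩
      exact ⟨Subgroup.inclusion inf_le_left x, x.2, rfl⟩
    · rintro ⟨x, hx, rfl⟩
      exact ⟨⟨x, hx⟩, rfl⟩
  haveI : (A.subgroupOf C).Normal := hker ▸ MonoidHom.normal_ker f
  refine ⟨inferInstance, ?_⟩
  obtain ⟨e'⟩ := pairStab_iso e hidx'
  exact ⟨((QuotientGroup.quotientMulEquivOfEq hker.symm).trans (QuotientGroup.quotientKerEquivRange f)).trans
    ((MulEquiv.subgroupCongr hrange).trans e')⟩

end Layer

end CfsgLib.LargeFischerJ
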