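import Cfsg.Agent.LargeFischer.StabA

/-!
Coordinate facts for the plane of pairs of `3.U4(3)`: the maps fixing it pointwise, the planes through a vector
of weight two, and a monomial element of order three moving every non-trivial such map.
-/

set_option autoImplicit false
set_option linter.unusedSectionVars false
set_option maxRecDepth 100000
set_option maxHeartbeats 1000000
set_option synthInstance.maxHeartbeats 400000
set_option synthInstance.maxSize 8192

namespace CfsgLib.LargeFischerJ.Calc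

open CfsgLib.LargeFischer

/-- Coordinate vectors. -/
abbrev Vec := Fin 6 → W

/-- The product of the field with four elements. -/
def mulW (a b : W) : W := if a = 0 then 0 else rk (expW a) b

/-- The conjugation of the field with four elements. -/
def conjW (a : W) : W := (a.1 + a.2, a.2)

/-- Pointwise multiplication by the primitive element. -/
def scal (w : Vec) : Vec := fun i => rW (w i)

/-- Pointwise multiplication by a scalar. -/
def smulV (a : W) (w : Vec) : Vec := fun i => mulW a (w i)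

/-- The weight. -/
def wt (w : Vec) : ℕ :=
  (if w 0 = 0 then 0 else 1) + (if w 1 = 0 then 0 else 1) + (if w 2 = 0 then 0 else 1) +
    (if w 3 = 0 then 0 else 1) + (if w 4 = 0 then 0 else 1) + (if w 5 = 0 then 0 else 1)

/-- The product class. -/
def cls (w : Vec) : ZMod 3 := expW (w 0) + expW (w 1) + expW (w 2) + expW (w 3) + expW (w 4) + expW (w 5)

/-- The class of size 378, as a test. -/
def isA (c : ZMod 3) (w : Vec) : Bool := wt w == 2 || (wt w == 6 && cls w == c)

theorem card_suppW (w : Vec) : (suppW w).card = wt w := by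
  rw [suppW, Finset.card_filter, Fin.sum_univ_six, wt]
  simp only [ne_eq, ite_not]

theorem classW_eq (w : Vec) : classW w = cls w := by rw [classW, Fin.sum_univ_six, cls]

/-- The parity of the weight. -/
def par (w : Vec) : ZMod 2 := nW (w 0) + nW (w 1) + nW (w 2) + nW (w 3) + nW (w 4) + nW (w 5)

/-- The polar form. -/
def bV (u w : Vec) : ZMod 2 :=
  bW (u 0) (w 0) + bW (u 1) (w 1) + bW (u 2) (w 2) + bW (u 3) (w 3) + bW (u 4) (w 4) + bW (u 5) (w 5)

theorem par_add (u w : Vec) : par (u + w) = par u + par w + bV u w := by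
  have h : ∀ a c : W, nW (a + c) = nW a + nW c + bW a c := by decide
  simp only [par, bV, Pi.add_apply, h]
  ring

/-- The plane of pairs. -/
def InU (w : Vec) : Prop := w 0 = w 1 ∧ w 2 = w 3 ∧ w 4 = w 5

instance : DecidablePred InU := fun w => inferInstanceAs (Decidable (_ ∧ _ ∧ _))

/-- The vector of pairs. -/
def pairs (t : W × W × W) : Vec := ![t.1, t.1, t.2.1, t.2.1, t.2.2, t.2.2]

theorem pairs_inj : Function.Injective pairs := by
  intro a b h
  have h0 := congrFun h 0
  have h2 := congrFun h 2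
  have h4 := congrFun h 4
  exact Prod.ext h0 (Prod.ext h2 h4)

theorem inU_pairs (t : W × W × W) : InU (pairs t) := ⟨rfl, rfl, rfl⟩

theorem pairs_of_inU {w : Vec} (h : InU w) : pairs (w 0, w 2, w 4) = w := by
  funext i
  fin_cases i
  exacts [rfl, h.1, rfl, h.2.1, rfl, h.2.2]

theorem pairs_card : ∀ c : ZMod 3,
    (Finset.univ.filter fun t : W × W × W => isA c (pairs t) = true).card = 18 ∧
      (Finset.univ.filter fun t : W × W × W => t ≠ 0 ∧ isA c (pairs t) = false).card = 45 := by
  decide +kernel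

theorem pairs_par : ∀ t : W × W × W, par (pairs t) = 0 := by decide +kernel

/-- The maps fixing the plane of pairs pointwise, coded by a hermitian matrix. -/
abbrev Code := (ZMod 2 × ZMod 2 × ZMod 2) × (W × W × W)

/-- The three sums of the pairs. -/
def sums (w : Vec) : W × W × W := (w 0 + w 1, w 2 + w 3, w 4 + w 5)

/-- The hermitian matrix applied to three values. -/
def herm (cd : Code) (s : W × W × W) : W × W × W :=
  (mulW s.1 (cd.1.1, 0) + mulW s.2.1 (conjW cd.2.1) + mulW s.2.2 (conjW cd.2.2.1),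
   mulW s.1 cd.2.1 + mulW s.2.1 (cd.1.2.1, 0) + mulW s.2.2 (conjW cd.2.2.2),
   mulW s.1 cd.2.2.1 + mulW s.2.1 cd.2.2.2 + mulW s.2.2 (cd.1.2.2, 0))

/-- The nilpotent part. -/
def nil (cd : Code) (w : Vec) : Vec := pairs (herm cd (sums w))

theorem mulW_add : ∀ a b c : W, mulW a (b + c) = mulW a b + mulW a c ∧ mulW (a + b) c = mulW a c + mulW b c := by
  decide +kernel

theorem nil_code_add (p q : Code) (w : Vec) : nil (p + q) w = nil p w + nil q w := by
  have hc : ∀ a b : W, conjW (a + b) = conjW a + conjW b := by decide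
  have hd : ∀ a b : ZMod 2, ((a + b, 0) : W) = (a, 0) + (b, 0) := by decide
  funext i
  fin_cases i <;>
  · simp only [nil, herm, pairs, Prod.fst_add, Prod.snd_add, hc, hd, (mulW_add _ _ _).1, Pi.add_apply]
    simp
    abel

theorem nil_injective : ∀ cd : Code, (∀ i : Fin 6, nil cd (Pi.single i (1, 0)) = 0) → cd = 0 := by
  decide +kernel

/-- The transvections among the maps. -/
def transList (c : ZMod 3) : List Code :=
  [((1, 0, 0), 0), ((0, 1, 0), 0), ((0, 0, 1), 0)] ++
    if c = 0 then [((1, 1, 1), ((1, 0), (1, 0), (1, 0))), ((1, 1, 1), ((0, 1), (1, 1), (0, 1))),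
      ((1, 1, 1), ((1, 1), (0, 1), (1, 1)))]
    else if c = 1 then [((1, 1, 1), ((1, 0), (1, 1), (1, 1))), ((1, 1, 1), ((0, 1), (0, 1), (1, 0))),
      ((1, 1, 1), ((1, 1), (1, 0), (0, 1)))]
    else [((1, 1, 1), ((1, 0), (0, 1), (0, 1))), ((1, 1, 1), ((0, 1), (1, 0), (1, 1))),
      ((1, 1, 1), ((1, 1), (1, 1), (1, 0)))]

/-- The sums of two transvections. -/
def evenList (c : ZMod 3) : List Code :=
  ((transList c).flatMap fun p => (transList c).map fun q => p + q).dedup

/-- All the maps preserving the class. -/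
def allList (c : ZMod 3) : List Code :=
  evenList c ++ (evenList c).map fun p => p + ((1, 0, 0), 0)

theorem even_facts : ∀ c : ZMod 3, (evenList c).length = 16 ∧ (allList c).length = 32 ∧
    (∀ p ∈ allList c, ∀ q ∈ allList c, p + q ∈ allList c) ∧ (∀ t ∈ transList c, t ∈ allList c) ∧
      ((1, 1, 0), 0) ∈ evenList c ∧ ((1, 0, 1), 0) ∈ evenList c ∧ ((0, 1, 1), 0) ∈ evenList c := by
  decide +kernel

/-- The vectors of weight two. -/
def twos : List Vec :=
  (List.finRange 6).flatMap fun i => ((List.finRange 6).filter fun j => decide (i < j)).flatMap fun j =>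
    [((1, 0) : W), (0, 1), (1, 1)].flatMap fun a => [((1, 0) : W), (0, 1), (1, 1)].map fun b =>
      Pi.single i a + Pi.single j b

theorem twos_ok : twos.all (fun w => wt w == 2) = true := by decide +kernel

theorem good_code : ∀ (c : ZMod 3) (cd : Code),
    twos.all (fun w => isA c (w + nil cd w)) = true → cd ∈ allList c := by
  decide +kernel

theorem trans_small : ∀ c : ZMod 3, ∀ t ∈ transList c, t ≠ 0 ∧
    (Finset.univ.image fun s : W × W × W => herm t s).card ≤ 4 := by
  decide +kernel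

theorem even_large : ∀ c : ZMod 3, ∀ t ∈ evenList c, t ≠ 0 →
    16 ≤ (Finset.univ.image fun s : W × W × W => herm t s).card := by
  decide +kernel

theorem exists_sums : ∀ s : W × W × W, sums ![s.1, 0, s.2.1, 0, s.2.2, 0] = s := by decide +kernel

theorem herm_offdiag : ∀ n m : W, bW n (1, 0) + bW (1, 0) m = 0 → bW n (rW (1, 0)) + bW (1, 0) (rW m) = 0 →
    m = conjW n := by
  decide

theorem herm_diag : ∀ n : W, bW (1, 0) n = 0 → n = (n.1, 0) := by decide

/-- The pairwise unit vectors. -/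
def unitVec (i : Fin 3) : Vec := ![![(1, 0), 0, 0, 0, 0, 0], ![0, 0, (1, 0), 0, 0, 0], ![0, 0, 0, 0, (1, 0), 0]] i

theorem scal_smul : ∀ a : W, a = 0 ∨ a = (1, 0) ∨ a = rW (1, 0) ∨ a = rW (rW (1, 0)) := by decide

theorem smul_facts : (∀ x : W, mulW 0 x = 0 ∧ mulW (1, 0) x = x ∧ mulW (rW (1, 0)) x = rW x ∧
    mulW (rW (rW (1, 0))) x = rW (rW x)) := by decide

theorem equivariant (dd : Vec ≃+ Vec) (hx : ∀ w, dd (scal w) = scal (dd w)) (a : W) (w : Vec) :
    dd (smulV a w) = smulV a (dd w) := by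
  rcases scal_smul a with rfl | rfl | rfl | rfl
  · have h : ∀ u : Vec, smulV 0 u = 0 := fun u => funext fun i => (smul_facts (u i)).1
    rw [h, h, map_zero]
  · have h : ∀ u : Vec, smulV (1, 0) u = u := fun u => funext fun i => (smul_facts (u i)).2.1
    rw [h, h]
  · have h : ∀ u : Vec, smulV (rW (1, 0)) u = scal u := fun u => funext fun i => (smul_facts (u i)).2.2.1
    rw [h, h, hx]
  · have h : ∀ u : Vec, smulV (rW (rW (1, 0))) u = scal (scal u) :=
      fun u => funext fun i => (smul_facts (u i)).2.2.2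
    rw [h, h, hx, hx]

theorem decompose : ∀ w : Vec, w = pairs (w 1, w 3, w 5) + (smulV (w 0 + w 1) (unitVec 0) +
    (smulV (w 2 + w 3) (unitVec 1) + smulV (w 4 + w 5) (unitVec 2))) := by
  intro w
  have h1 : ∀ a b : W, a = b + mulW (a + b) (1, 0) ∧ mulW a 0 = 0 := by decide
  funext i
  fin_cases i <;> simp [pairs, smulV, unitVec, (h1 0 0).2, fun a => (h1 a 0).2]
  all_goals first | exact (h1 _ _).1 | rfl

theorem perp_pairs {w : Vec} (h : ∀ t, bV w (pairs t) = 0) : InU w := by
  have key : ∀ a a' : W, (∀ x : W, bW a x + bW a' x = 0) → a = a' := by decide +kernel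
  have hz : ∀ a : W, bW a 0 = 0 := fun a => (bW_zero a).1
  refine ⟨key _ _ fun x => ?_, key _ _ fun x => ?_, key _ _ fun x => ?_⟩
  · simpa [bV, pairs, hz] using h (x, 0, 0)
  · simpa [bV, pairs, hz] using h (0, x, 0)
  · simpa [bV, pairs, hz] using h (0, 0, x)

theorem bW_add : ∀ a a' c : W, bW (a + a') c = bW a c + bW a' c ∧ bW c (a + a') = bW c a + bW c a' := by
  decide +kernel

theorem bV_shift (a b : Vec) (n m : W × W × W) :
    bV (a + pairs n) (b + pairs m) = bV a b + (bV a (pairs m) + bV (pairs n) b) := by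
  have h2 : bV (pairs n) (pairs m) = 0 := by
    have key : ∀ x y z : ZMod 2, x + x + y + y + z + z = 0 := by decide
    exact key (bW n.1 m.1) (bW n.2.1 m.2.1) (bW n.2.2 m.2.2)
  calc bV (a + pairs n) (b + pairs m) = bV a b + (bV a (pairs m) + bV (pairs n) b) + bV (pairs n) (pairs m) := by
        simp only [bV, Pi.add_apply, (bW_add _ _ _).1, (bW_add _ _ _).2]
        ring
    _ = _ := by rw [h2, add_zero]

theorem scal_pairs (n : W × W × W) : scal (pairs n) = pairs (rW n.1, rW n.2.1, rW n.2.2) := by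
  funext i
  fin_cases i <;> rfl

theorem scal_add (a b : Vec) : scal (a + b) = scal a + scal b := funext fun i => map_add rW (a i) (b i)

/-- A map fixing the plane of pairs pointwise is given by a code. -/
theorem exists_code (dd : Vec ≃+ Vec) (hx : ∀ w, dd (scal w) = scal (dd w))
    (hq : ∀ w, par (dd w) = par w) (hfix : ∀ t, dd (pairs t) = pairs t) :
    ∃ cd : Code, ∀ w, dd w = w + nil cd w := by
  have hb : ∀ u w, bV (dd u) (dd w) = bV u w := fun u w => by
    have h := hq (u + w)
    rw [map_add, par_add, par_add, hq, hq] at h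
    exact add_left_cancel h
  have htwo : ∀ w : Vec, w + w = 0 := fun w => funext fun i => by
    have h : ∀ a : W, a + a = 0 := by decide
    exact h (w i)
  have hbadd : ∀ a a' c : W, bW (a + a') c = bW a c + bW a' c ∧ bW c (a + a') = bW c a + bW c a' := by
    decide +kernel
  have hNU : ∀ i, InU (dd (unitVec i) + unitVec i) := fun i => perp_pairs fun t => by
    have h := hb (unitVec i) (pairs t)
    rw [hfix] at h
    have hl : bV (dd (unitVec i) + unitVec i) (pairs t) =
        bV (dd (unitVec i)) (pairs t) + bV (unitVec i) (pairs t) := by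
      simp only [bV, Pi.add_apply, (bW_add _ _ _).1]
      ring
    rw [hl, h, CharTwo.add_self_eq_zero]
  obtain ⟨p, hp⟩ : ∃ p : Fin 3 → W × W × W, ∀ i, dd (unitVec i) = unitVec i + pairs (p i) :=
    ⟨fun i => ((dd (unitVec i) + unitVec i) 0, (dd (unitVec i) + unitVec i) 2, (dd (unitVec i) + unitVec i) 4),
      fun i => by rw [pairs_of_inU (hNU i), add_comm (dd (unitVec i)), ← add_assoc, htwo, zero_add]⟩
  have hz : ∀ a : W, bW a 0 = 0 ∧ bW 0 a = 0 := bW_zero
  have hbs := bW_self_pair
  have dq : ∀ n : W, nW ((1, 0) + n) + nW n = 1 → bW (1, 0) n = 0 := by decide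
  have d0 : (p 0).1 = ((p 0).1.1, 0) := herm_diag _ (dq _ (by
    have h := hq (unitVec 0)
    rw [hp] at h
    simpa [par, unitVec, pairs, show nW (1, 0) = 1 from rfl, show nW (0 : W) = 0 from rfl,
      CharTwo.add_self_eq_zero, add_assoc] using h))
  have d1 : (p 1).2.1 = ((p 1).2.1.1, 0) := herm_diag _ (dq _ (by
    have h := hq (unitVec 1)
    rw [hp] at h
    simpa [par, unitVec, pairs, show nW (1, 0) = 1 from rfl, show nW (0 : W) = 0 from rfl,
      CharTwo.add_self_eq_zero, add_assoc] using h))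
  have d2 : (p 2).2.2 = ((p 2).2.2.1, 0) := herm_diag _ (dq _ (by
    have h := hq (unitVec 2)
    rw [hp] at h
    simpa [par, unitVec, pairs, show nW (1, 0) = 1 from rfl, show nW (0 : W) = 0 from rfl,
      CharTwo.add_self_eq_zero, add_assoc] using h))
  have hr0 : rW 0 = 0 := rfl
  have e01 : (p 1).1 = conjW (p 0).2.1 := herm_offdiag _ _
    (by
      have h := hb (unitVec 0) (unitVec 1)
      rw [hp, hp, bV_shift] at h
      simpa [bV, unitVec, pairs, hz, hbs, add_comm] using h)
    (by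
      have h := hb (unitVec 0) (scal (unitVec 1))
      rw [hx, hp, hp, scal_add, scal_pairs, bV_shift] at h
      simpa [bV, scal, unitVec, pairs, hz, hbs, hr0, add_comm] using h)
  have e02 : (p 2).1 = conjW (p 0).2.2 := herm_offdiag _ _
    (by
      have h := hb (unitVec 0) (unitVec 2)
      rw [hp, hp, bV_shift] at h
      simpa [bV, unitVec, pairs, hz, hbs, add_comm] using h)
    (by
      have h := hb (unitVec 0) (scal (unitVec 2))
      rw [hx, hp, hp, scal_add, scal_pairs, bV_shift] at h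
      simpa [bV, scal, unitVec, pairs, hz, hbs, hr0, add_comm] using h)
  have e12 : (p 2).2.1 = conjW (p 1).2.2 := herm_offdiag _ _
    (by
      have h := hb (unitVec 1) (unitVec 2)
      rw [hp, hp, bV_shift] at h
      simpa [bV, unitVec, pairs, hz, hbs, add_comm] using h)
    (by
      have h := hb (unitVec 1) (scal (unitVec 2))
      rw [hx, hp, hp, scal_add, scal_pairs, bV_shift] at h
      simpa [bV, scal, unitVec, pairs, hz, hbs, hr0, add_comm] using h)
  refine ⟨(((p 0).1.1, (p 1).2.1.1, (p 2).2.2.1), ((p 0).2.1, (p 0).2.2, (p 1).2.2)), fun w => ?_⟩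
  have hsm : ∀ (a : W) (x : Vec) (n : W × W × W),
      smulV a (x + pairs n) = smulV a x + pairs (mulW a n.1, mulW a n.2.1, mulW a n.2.2) := fun a x n => by
    funext i
    fin_cases i <;> exact (mulW_add _ _ _).1
  have hpair : ∀ m n : W × W × W, pairs m + pairs n = pairs (m + n) := fun m n => by
    funext i
    fin_cases i <;> rfl
  have hN : herm (((p 0).1.1, (p 1).2.1.1, (p 2).2.2.1), ((p 0).2.1, (p 0).2.2, (p 1).2.2)) (sums w) =
      (mulW (w 0 + w 1) (p 0).1, mulW (w 0 + w 1) (p 0).2.1, mulW (w 0 + w 1) (p 0).2.2) +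
      (mulW (w 2 + w 3) (p 1).1, mulW (w 2 + w 3) (p 1).2.1, mulW (w 2 + w 3) (p 1).2.2) +
      (mulW (w 4 + w 5) (p 2).1, mulW (w 4 + w 5) (p 2).2.1, mulW (w 4 + w 5) (p 2).2.2) := by
    simp only [herm, sums, Prod.mk_add_mk]
    rw [← d0, ← d1, ← d2, ← e01, ← e02, ← e12]
  calc dd w = dd (pairs (w 1, w 3, w 5) + (smulV (w 0 + w 1) (unitVec 0) +
        (smulV (w 2 + w 3) (unitVec 1) + smulV (w 4 + w 5) (unitVec 2)))) := by rw [← decompose w]
    _ = (pairs (w 1, w 3, w 5) + (smulV (w 0 + w 1) (unitVec 0) +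
        (smulV (w 2 + w 3) (unitVec 1) + smulV (w 4 + w 5) (unitVec 2)))) +
        nil (((p 0).1.1, (p 1).2.1.1, (p 2).2.2.1), ((p 0).2.1, (p 0).2.2, (p 1).2.2)) w := by
      rw [map_add, map_add, map_add, hfix, equivariant dd hx, equivariant dd hx, equivariant dd hx, hp, hp, hp,
        hsm, hsm, hsm, nil, hN, ← hpair, ← hpair]
      abel
    _ = _ := by rw [← decompose w]

/-- The partner of the third coordinate. -/
def colJ (j : Fin 3) : Fin 6 := ![3, 4, 5] j
/-- The first coordinate of the last pair. -/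
def colK (j : Fin 3) : Fin 6 := ![4, 3, 4] j
/-- The second coordinate of the last pair. -/
def colL (j : Fin 3) : Fin 6 := ![5, 5, 3] j

/-- A plane through the vector of weight two on the first pair. -/
def InPl (j : Fin 3) (p q : ZMod 3) (w : Vec) : Prop :=
  w 0 = w 1 ∧ w 2 = rk p (w (colJ j)) ∧ w (colK j) = rk q (w (colL j))

instance (j : Fin 3) (p q : ZMod 3) : DecidablePred (InPl j p q) :=
  fun _ => inferInstanceAs (Decidable (_ ∧ _ ∧ _))

/-- Its vectors. -/
def plVec (j : Fin 3) (p q : ZMod 3) (t : W × W × W) : Vec := fun i =>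
  if i = 0 ∨ i = 1 then t.1 else if i = 2 then rk p t.2.1 else if i = colJ j then t.2.1
    else if i = colK j then rk q t.2.2 else t.2.2

/-- The set of its vectors. -/
def plSet (x : Fin 3 × ZMod 3 × ZMod 3) : Finset Vec :=
  Finset.univ.image (plVec x.1 x.2.1 x.2.2)

theorem plVec_mem {j : Fin 3} {p q : ZMod 3} {w : Vec} (h : InPl j p q w) :
    plVec j p q (w 0, w (colJ j), w (colL j)) = w := by
  obtain ⟨h1, h2, h3⟩ := h
  funext i
  fin_cases j <;> fin_cases i <;> simp [plVec, colJ, colK, colL] at h2 h3 ⊢ <;>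
    first | exact h1 | exact h2.symm | exact h3.symm

theorem pl_facts : (∀ x, (plSet x).card = 64) ∧ Function.Injective plSet := by
  refine ⟨by decide +kernel, fun a b h => ?_⟩
  have key : ∀ a b : Fin 3 × ZMod 3 × ZMod 3,
      (∀ t : W × W × W, InPl b.1 b.2.1 b.2.2 (plVec a.1 a.2.1 a.2.2 t)) → a = b := by decide +kernel
  refine key a b fun t => ?_
  have hm : plVec a.1 a.2.1 a.2.2 t ∈ plSet b := h ▸ Finset.mem_image_of_mem _ (Finset.mem_univ _)
  obtain ⟨u, -, hu⟩ := Finset.mem_image.1 hm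
  rw [← hu]
  exact (show ∀ (x : Fin 3 × ZMod 3 × ZMod 3) (u : W × W × W),
    InPl x.1 x.2.1 x.2.2 (plVec x.1 x.2.1 x.2.2 u) by decide +kernel) b u

/-- The permutation bringing a plane to the plane of pairs. -/
def plPerm (j : Fin 3) : Equiv.Perm (Fin 6) :=
  ![1, Equiv.swap 3 4 * Equiv.swap 0 1, Equiv.swap 3 5 * Equiv.swap 0 1] j

/-- The scalars doing so. -/
def plDiag (p q : ZMod 3) : Fin 6 → ZMod 3 := ![-(p + q), -(p + q), -p, 0, -q, 0]

/-- The monomial map. -/
def plMap (j : Fin 3) (p q : ZMod 3) (w : Vec) : Vec := fun i => rk (plDiag p q i) (w ((plPerm j).symm i))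

theorem plMap_facts : (∀ j, Equiv.Perm.sign (plPerm j) = 1) ∧ (∀ p q, ∑ i, plDiag p q i = 0) ∧
    ∀ (x : Fin 3 × ZMod 3 × ZMod 3) (t : W × W × W), InU (plMap x.1 x.2.1 x.2.2 (plVec x.1 x.2.1 x.2.2 t)) := by
  decide +kernel

theorem pair_prop : ∀ a b c d : W, a ≠ 0 → b ≠ 0 → bW c a + bW d b = 0 → bW c (rW a) + bW d (rW b) = 0 →
    c = rk (expW a - expW b) d := by
  decide +kernel

theorem three_weights : ∀ a b d : W, nW a + nW b + nW d = 0 → (a, b, d) ≠ (0, 0, 0) →
    (a = 0 ∧ b ≠ 0 ∧ d ≠ 0) ∨ (b = 0 ∧ a ≠ 0 ∧ d ≠ 0) ∨ (d = 0 ∧ a ≠ 0 ∧ b ≠ 0) := by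
  decide +kernel

/-- The cycle of the pairs, as an element of order three moving every map. -/
def cycPerm : Equiv.Perm (Fin 6) := Equiv.addRight 2

/-- Its scalars. -/
def cycDiag (c : ZMod 3) : Fin 6 → ZMod 3 := if c = 0 then ![0, 0, 1, 1, 2, 2] else 0

/-- The monomial map. -/
def cycMap (c : ZMod 3) (w : Vec) : Vec := fun j => rk (cycDiag c (j + 4)) (w (j + 4))

theorem cyc_facts : Equiv.Perm.sign cycPerm = 1 ∧ (∀ c, ∑ i, cycDiag c i = 0) ∧
    (∀ c t, InU (cycMap c (pairs t))) ∧ (∀ (c : ZMod 3) (i : Fin 6) (a : W),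
      cycMap c (cycMap c (cycMap c (Pi.single i a))) = Pi.single i a) := by
  decide +kernel

theorem cyc_moves : ∀ c : ZMod 3, ∀ cd ∈ evenList c,
    (∀ i : Fin 6, ∀ a : W, cycMap c (nil cd (Pi.single i a)) = nil cd (cycMap c (Pi.single i a))) → cd = 0 := by
  decide +kernel

theorem diag_images : ∀ t : W × W × W,
    (t.1 = 0 → ∃ s, herm ((0, 1, 1), 0) s = t) ∧ (t.2.1 = 0 → ∃ s, herm ((1, 0, 1), 0) s = t) ∧
      (t.2.2 = 0 → ∃ s, herm ((1, 1, 0), 0) s = t) ∧ (herm ((0, 1, 1), 0) t).1 = 0 ∧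
      (herm ((1, 0, 1), 0) t).2.1 = 0 ∧ (herm ((1, 1, 0), 0) t).2.2 = 0 := by
  decide +kernel

/-- A vector whose sum of four has weight four: the centre of no transvection. -/
def fourVec : Vec := ![(1, 0), (1, 0), (1, 0), (1, 0), 0, 0]

theorem four_witness : ∀ c : ZMod 3, isA c (![0, 0, 0, (1, 0), 0, (1, 0)]) = true ∧
    ∀ a : W, a ≠ 0 → isA c (fun i => mulW a (fourVec i) + (![0, 0, 0, (1, 0), 0, (1, 0)] : Vec) i) = false := by
  decide +kernel

end CfsgLib.LargeFischerJ.Calc
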