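import Cfsg.Agent.LargeFischer.Conjugates
import Cfsg.Agent.LargeFischer.Outer
import Cfsg.Agent.LargeFischer.StabAOrth
import Cfsg.Agent.UFourThree.Five
import Cfsg.Agent.LargeFischerJ.PlaneCalc

/-!
Linear algebra of the module; no element of `L` is a transvection.
-/

set_option autoImplicit false
set_option linter.unusedSectionVars false
set_option linter.style.haveILetI false
set_option maxHeartbeats 1000000

namespace CfsgLib.LargeFischerJ

open Cfsg CfsgLib.LargeFischer

theorem zmod_two_cases : ∀ a : ZMod 2, a = 0 ∨ a = 1 := by decide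

variable {G : Type*} [Group G] [Finite G] {z : G} {Q : Subgroup (Cz z)} [Q.Normal] (D : Data z Q)
include D

theorem act_one' (v : QV Q) : act (1 : Cz z ⧸ Q) v = v := by
  have h := act_mul D.hS 1 1 v
  rw [one_mul] at h
  exact (act 1).injective h.symm

theorem bf_comm (u v : QV Q) : bf D.hS u v = bf D.hS v u := by
  unfold bf
  rw [add_comm u v]
  ring

theorem bf_zero (u : QV Q) : bf D.hS u 0 = 0 ∧ bf D.hS 0 u = 0 := by
  have h := bf_add D.hS u 0 0
  rw [add_zero, CharTwo.add_self_eq_zero] at h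
  exact ⟨h, (bf_comm D 0 u).trans h⟩

theorem bf_add_left (u v w : QV Q) : bf D.hS (u + v) w = bf D.hS u w + bf D.hS v w := by
  rw [bf_comm D, bf_add D.hS, bf_comm D w u, bf_comm D w v]

theorem qf_zero : qf D.hS (0 : QV Q) = 0 := by
  rw [← vec_one (Q := Q)]
  exact (qf_eq_zero_iff D.hS 1).2 (one_mul 1)

theorem bf_self (u : QV Q) : bf D.hS u u = 0 := by
  unfold bf
  rw [QV_two D.hS, qf_zero D]
  have key : ∀ a : ZMod 2, 0 - a - a = 0 := by decide
  exact key _

theorem bf_act (h : Cz z ⧸ Q) (u v : QV Q) : bf D.hS (act h u) (act h v) = bf D.hS u v := by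
  unfold bf
  rw [← map_add, qf_act, qf_act, qf_act]

/-- The scalar. -/
noncomputable abbrev xm (v : QV Q) : QV Q := act (D.x : Cz z ⧸ Q) v

theorem xm_three (v : QV Q) : xm D (xm D (xm D v)) = v := by
  rw [xm, xm, xm, ← act_mul D.hS, ← act_mul D.hS]
  have h := congrArg Subtype.val D.x3
  rw [SubgroupClass.coe_pow, pow_succ, pow_two, mul_assoc] at h
  rw [show (D.x : Cz z ⧸ Q) * D.x * D.x = 1 by rw [mul_assoc]; exact h, act_one' D]

theorem xm_sum (v : QV Q) : xm D (xm D v) = xm D v + v := by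
  obtain ⟨F⟩ := D.exists_frame
  have key : ∀ a : W, rW (rW a) = rW a + a := by decide
  refine F.coord.injective (funext fun i => ?_)
  rw [map_add, Pi.add_apply]
  show F.coord (D.setting.φ D.setting.x (D.setting.φ D.setting.x v)) i = F.coord (D.setting.φ D.setting.x v) i + _
  rw [F.coord_x, F.coord_x]
  exact key _

theorem xm_fix {v : QV Q} (h : xm D v = v) : v = 0 := by
  obtain ⟨F⟩ := D.exists_frame
  exact F.x_fix v h

theorem xm_comm {l : Cz z ⧸ Q} (hl : l ∈ D.L) (v : QV Q) : act l (xm D v) = xm D (act l v) := by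
  rw [xm, xm, ← act_mul D.hS, ← act_mul D.hS]
  exact congrArg (fun m => act m v) (congrArg Subtype.val (Subgroup.mem_center_iff.1 D.x_center ⟨l, hl⟩))

theorem xm_twist {h : Cz z ⧸ Q} (hh : h ∉ D.L) (v : QV Q) : act h (xm D v) = xm D (xm D (act h v)) := by
  have e := mul_inv_eq_iff_eq_mul.1 (D.outer_inverts hh)
  have e3 : (D.x : Cz z ⧸ Q)⁻¹ = D.x * D.x := by
    refine inv_eq_of_mul_eq_one_right ?_
    have := congrArg Subtype.val D.x3
    rw [SubgroupClass.coe_pow, pow_succ, pow_two, mul_assoc] at this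
    exact this
  rw [xm, xm, xm, ← act_mul D.hS, e, e3, act_mul D.hS, act_mul D.hS]

/-- An involution of `L` commutes with no element of order five. -/
theorem no_five (u l : D.L) (hu : u ^ 2 = 1) (hu1 : u ≠ 1) (hl : orderOf l = 5) : ¬ Commute u l := by
  intro hcom
  letI := D.fieldK
  letI := D.fintypeK
  have hker : ∀ y, D.π y = 1 → y ^ 3 = 1 := fun y hy => by
    obtain ⟨n, rfl⟩ := (D.π_ker y).1 hy
    rw [← zpow_natCast, ← zpow_mul, mul_comm, zpow_mul, zpow_natCast, D.x3, one_zpow]
  haveI : Fact (Nat.Prime 5) := ⟨by norm_num⟩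
  have hl5 : orderOf (D.π l) = 5 := by
    refine orderOf_eq_prime ?_ fun h => ?_
    · rw [← map_pow, ← hl, pow_orderOf_eq_one, map_one]
    · have := orderOf_dvd_of_pow_eq_one (hker l h)
      rw [hl] at this
      norm_num at this
  have hcz := CfsgLib.UFourThree.centralizer_five D.K D.cardK (Subgroup.zpowers (D.π l))
    (by rw [Nat.card_zpowers, hl5])
  have hmem : D.π u ∈ Subgroup.zpowers (D.π l) := by
    rw [← hcz, Subgroup.mem_centralizer_iff]
    rintro _ ⟨n, rfl⟩
    exact ((hcom.map D.π).zpow_right n).eq.symm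
  have h5' : D.π u ^ 5 = 1 := by
    obtain ⟨n, hn⟩ := hmem
    have hn' : D.π l ^ n = D.π u := hn
    rw [← hn', ← zpow_natCast, ← zpow_mul, mul_comm, zpow_mul, zpow_natCast, ← hl5,
      pow_orderOf_eq_one, one_zpow]
  have h2' : D.π u ^ 2 = 1 := by rw [← map_pow, hu, map_one]
  have h1 : D.π u = 1 := by
    rw [pow_succ, show D.π u ^ 4 = (D.π u ^ 2) ^ 2 from pow_mul _ 2 2, h2', one_pow, one_mul] at h5'
    exact h5'
  have h3 := hker u h1
  exact hu1 (by rw [pow_succ, hu, one_mul] at h3; exact h3)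

/-- The vectors orthogonal to a subgroup. -/
def perpS (P : AddSubgroup (QV Q)) : AddSubgroup (QV Q) where
  carrier := {v | ∀ p ∈ P, bf D.hS p v = 0}
  zero_mem' := fun p _ => (bf_zero D p).1
  add_mem' := fun {a b} ha hb p hp => by rw [bf_add D.hS, ha p hp, hb p hp, add_zero]
  neg_mem' := fun {a} ha p hp => by rw [neg_eq_of_add_eq_zero_left (QV_two D.hS a)]; exact ha p hp

theorem mem_perpS {P : AddSubgroup (QV Q)} {v : QV Q} : v ∈ perpS D P ↔ ∀ p ∈ P, bf D.hS p v = 0 := Iff.rfl

theorem card_perpS (P : AddSubgroup (QV Q)) : Nat.card (perpS D P) * Nat.card P = 4096 := by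
  classical
  letI : Module (ZMod 2) (QV Q) := AddCommGroup.zmodModule fun a => by rw [two_nsmul]; exact QV_two D.hS a
  haveI : Fact (Nat.Prime 2) := ⟨Nat.prime_two⟩
  let B : LinearMap.BilinForm (ZMod 2) (QV Q) := LinearMap.mk₂ (ZMod 2) (bf D.hS) (bf_add_left D)
    (fun c u w => by
      rcases zmod_two_cases c with rfl | rfl
      · rw [zero_smul, zero_smul, (bf_zero D w).2]
      · rw [one_smul, one_smul])
    (bf_add D.hS)
    (fun c u w => by
      rcases zmod_two_cases c with rfl | rfl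
      · rw [zero_smul, zero_smul, (bf_zero D u).1]
      · rw [one_smul, one_smul])
  have hB : B.Nondegenerate := by
    refine ⟨fun u hu => ?_, fun u hu => ?_⟩ <;> by_contra hne
    · obtain ⟨v, hv⟩ := bf_nondeg D.hS u hne
      exact hv (hu v)
    · obtain ⟨v, hv⟩ := bf_nondeg D.hS u hne
      exact hv ((bf_comm D u v).trans (hu v))
  let W' : Submodule (ZMod 2) (QV Q) := AddSubgroup.toZModSubmodule 2 P
  have horth : Nat.card (B.orthogonal W') = Nat.card (perpS D P) :=
    Nat.card_congr (Equiv.subtypeEquivRight fun v => Iff.rfl)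
  have hW : Nat.card W' = Nat.card P := Nat.card_congr (Equiv.subtypeEquivRight fun v => Iff.rfl)
  have hle := Submodule.finrank_le W'
  rw [← horth, ← hW, Module.natCard_eq_pow_finrank (K := ZMod 2) (V := B.orthogonal W'),
    Module.natCard_eq_pow_finrank (K := ZMod 2) (V := W'), LinearMap.BilinForm.finrank_orthogonal hB,
    ← pow_add, Nat.sub_add_cancel hle, ← Module.natCard_eq_pow_finrank, card_QV D.hS]

/-- Stability under the scalar. -/
def XStable (P : AddSubgroup (QV Q)) : Prop := ∀ v ∈ P, xm D v ∈ P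

theorem xStable_perpS {P : AddSubgroup (QV Q)} (hP : XStable D P) : XStable D (perpS D P) := fun v hv p hp => by
  rw [← xm_three D p]
  exact (bf_act D _ _ _).trans (hv _ (hP _ (hP p hp)))

theorem card_mod_three {P : AddSubgroup (QV Q)} (hP : XStable D P) : Nat.card P % 3 = 1 := by
  classical
  haveI : Fact (Nat.Prime 3) := ⟨by norm_num⟩
  haveI : Fintype P := Fintype.ofFinite _
  let σ : Equiv.Perm P :=
    { toFun := fun v => ⟨xm D v.1, hP _ v.2⟩
      invFun := fun v => ⟨xm D (xm D v.1), hP _ (hP _ v.2)⟩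
      left_inv := fun v => Subtype.ext (xm_three D v.1)
      right_inv := fun v => Subtype.ext (xm_three D v.1) }
  have hσ : σ ^ 3 ^ 1 = 1 := Equiv.ext fun v => Subtype.ext (by
    rw [pow_one, pow_succ, pow_two]
    exact xm_three D v.1)
  have hmod := Equiv.Perm.card_compl_support_modEq hσ
  have h0 : σ.supportᶜ = {0} := by
    ext v
    simp only [Finset.mem_compl, Equiv.Perm.mem_support, not_not, Finset.mem_singleton]
    refine ⟨fun hv => Subtype.ext (xm_fix D (congrArg Subtype.val hv)), ?_⟩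
    rintro rfl
    exact Subtype.ext (map_zero (act (D.x : Cz z ⧸ Q)))
  rw [h0, Finset.card_singleton, ← Nat.card_eq_fintype_card] at hmod
  exact hmod.symm

theorem card_cases {P : AddSubgroup (QV Q)} (hP : XStable D P) :
    ∃ k, k ≤ 6 ∧ Nat.card P = 4 ^ k := by
  have hd : Nat.card P ∣ 2 ^ 12 := by
    rw [show (2 : ℕ) ^ 12 = 4096 from rfl, ← card_QV D.hS]
    exact P.card_addSubgroup_dvd_card
  obtain ⟨i, hi, he⟩ := (Nat.dvd_prime_pow Nat.prime_two).1 hd
  have h3 := card_mod_three D hP
  rw [he] at h3 ⊢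
  have key : ∀ j ≤ 12, 2 ^ j % 3 = 1 → 2 ^ j = 4 ^ (j / 2) := by decide
  exact ⟨i / 2, by omega, key i hi h3⟩

/-- The difference from the identity. -/
noncomputable def nilH (h : Cz z ⧸ Q) : QV Q →+ QV Q := (act h).toAddMonoidHom + AddMonoidHom.id _

omit D in
theorem nilH_apply (h : Cz z ⧸ Q) (v : QV Q) : nilH h v = act h v + v := rfl

theorem nilH_eq_zero {h : Cz z ⧸ Q} {v : QV Q} : nilH h v = 0 ↔ act h v = v := by
  rw [nilH_apply]
  constructor
  · intro e
    exact (eq_neg_of_add_eq_zero_left e).trans (neg_eq_of_add_eq_zero_left (QV_two D.hS v))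
  · intro e
    rw [e, QV_two D.hS]

theorem nilH_symm {e : Cz z ⧸ Q} (he : e * e = 1) (u w : QV Q) :
    bf D.hS (nilH e u) w = bf D.hS u (nilH e w) := by
  rw [nilH_apply, nilH_apply, bf_add_left D, bf_add D.hS]
  congr 1
  calc bf D.hS (act e u) w = bf D.hS (act e (act e u)) (act e w) := (bf_act D e _ _).symm
    _ = _ := by rw [← act_mul D.hS, he, act_one' D]

theorem nilH_xm {e : Cz z ⧸ Q} (he : e ∈ D.L) (v : QV Q) : nilH e (xm D v) = xm D (nilH e v) := by
  rw [nilH_apply, nilH_apply, xm_comm D he, xm, xm]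
  exact (map_add _ _ _).symm

theorem eq_zero_of_bf {u : QV Q} (h : ∀ w, bf D.hS u w = 0) : u = 0 := by
  by_contra hne
  obtain ⟨w, hw⟩ := bf_nondeg D.hS u hne
  exact hw (h w)

theorem nilH_perp {e : Cz z ⧸ Q} (he : e * e = 1) {P : AddSubgroup (QV Q)} (hr : ∀ v, nilH e v ∈ P)
    {u : QV Q} (hu : u ∈ perpS D P) : nilH e u = 0 :=
  eq_zero_of_bf D fun w => by rw [nilH_symm D he, bf_comm D]; exact hu _ (hr w)

/-- No element of `L` is a transvection. -/
theorem no_transvection (C : Coords D) {l : Cz z ⧸ Q} (hlL : l ∈ D.L) (hl2 : l * l = 1)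
    (hsm : Nat.card (nilH (Q := Q) l).range ≤ 4) : l = 1 := by
  classical
  by_contra hl1
  obtain ⟨v, hv⟩ : ∃ v, nilH l v ≠ 0 := by
    by_contra h
    push Not at h
    exact hl1 (act_faithful D.hS l fun v => (nilH_eq_zero D).1 (h v))
  set r := nilH l v with hr
  have hmem : ∀ w, nilH l w = 0 ∨ nilH l w = r ∨ nilH l w = xm D r ∨ nilH l w = xm D (xm D r) := by
    have hxr : xm D r ≠ 0 := fun e => hv ((act _).injective (e.trans (map_zero _).symm))
    have hxxr : xm D (xm D r) ≠ 0 := fun e => hxr ((act _).injective (e.trans (map_zero _).symm))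
    have h1 : xm D r ≠ r := fun e => hv (xm_fix D e)
    have h2 : xm D (xm D r) ≠ r := fun e => h1 (by
      have := congrArg (xm D) e
      rw [xm_three] at this
      exact this.symm)
    have h3 : xm D (xm D r) ≠ xm D r := fun e => hxr (xm_fix D e)
    haveI : Fintype (nilH (Q := Q) l).range := Fintype.ofFinite _
    let T : Finset (QV Q) := {0, r, xm D r, xm D (xm D r)}
    have hT : T.card = 4 := by
      simp [T, Ne.symm hv, Ne.symm hxr, Ne.symm hxxr, h1.symm, h2.symm, h3.symm]
    have hsub : T ⊆ ((nilH (Q := Q) l).range : Set (QV Q)).toFinset := by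
      intro a ha
      rw [Set.mem_toFinset]
      simp only [T, Finset.mem_insert, Finset.mem_singleton] at ha
      rcases ha with rfl | rfl | rfl | rfl
      · exact zero_mem _
      · exact ⟨v, rfl⟩
      · exact ⟨xm D v, nilH_xm D hlL v⟩
      · exact ⟨xm D (xm D v), by rw [nilH_xm D hlL, nilH_xm D hlL]⟩
    have heq := Finset.eq_of_subset_of_card_le hsub (by
      rw [hT, Set.toFinset_card, ← Nat.card_eq_fintype_card]; exact hsm)
    intro w
    have hw : nilH l w ∈ T := by rw [heq, Set.mem_toFinset]; exact ⟨w, rfl⟩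
    simpa [T] using hw
  have hfix : ∀ a, act l (nilH l a) = nilH l a := fun a => by
    rw [nilH_apply, map_add, ← act_mul D.hS, hl2, act_one' D, add_comm]
  have horth : ∀ a b, bf D.hS (nilH l a) (nilH l b) = 0 := fun a b => by
    rw [nilH_symm D hl2, (nilH_eq_zero D).2 (hfix b), (bf_zero D a).1]
  have hqr : qf D.hS r = 0 := by
    have h1 := horth v (xm D v)
    rw [nilH_xm D hlL, ← hr] at h1
    unfold bf at h1
    rw [add_comm r, ← xm_sum D, qf_act, qf_act] at h1
    have key : ∀ a : ZMod 2, a - a - a = 0 → a = 0 := by decide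
    exact key _ h1
  obtain ⟨t, ht, hcases⟩ : ∃ (t : Fin 6 → W) (l0 : D.L), D.setting.φ l0 r = C.F.coord.symm t ∧
      (t = vBase ∨ t = Calc.fourVec) := by
    rcases C.cases hqr hv with h | h
    · obtain ⟨l0, hl0⟩ := (C.orbA r (C.F.coord.symm vBase) h).2 (Or.inl (by
        rw [AddEquiv.apply_symm_apply]; exact vBase_facts.1))
      exact ⟨_, l0, hl0, Or.inl rfl⟩
    · obtain ⟨l0, hl0⟩ := (C.orbB r (C.F.coord.symm Calc.fourVec) h).2 (Or.inl (by
        rw [AddEquiv.apply_symm_apply]; decide))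
      exact ⟨_, l0, hl0, Or.inr rfl⟩
  obtain ⟨ht', hcases⟩ := hcases
  set m : Cz z ⧸ Q := (ht : Cz z ⧸ Q) * l * (ht : Cz z ⧸ Q)⁻¹ with hm
  have hmL : m ∈ D.L := D.L.mul_mem (D.L.mul_mem ht.2 hlL) (D.L.inv_mem ht.2)
  have hm2 : m * m = 1 := by rw [hm]; calc _ = (ht : Cz z ⧸ Q) * (l * l) * (ht : Cz z ⧸ Q)⁻¹ := by group
                                   _ = 1 := by rw [hl2, mul_one, mul_inv_cancel]
  have hm1 : m ≠ 1 := fun e => hl1 (by
    rw [hm, mul_inv_eq_one] at e
    exact mul_left_cancel (e.trans (mul_one _).symm))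
  set r' := C.F.coord.symm t with hr'
  have hmm : ∀ w, nilH m w = 0 ∨ nilH m w = r' ∨ nilH m w = xm D r' ∨ nilH m w = xm D (xm D r') := by
    intro w
    have e : nilH m w = act (ht : Cz z ⧸ Q) (nilH l (act (ht : Cz z ⧸ Q)⁻¹ w)) := by
      rw [nilH_apply, nilH_apply, map_add, hm, act_mul D.hS, act_mul D.hS]
      congr 1
      rw [← act_mul D.hS, mul_inv_cancel, act_one' D]
    have hr0 : act (ht : Cz z ⧸ Q) r = r' := ht'
    rcases hmem (act (ht : Cz z ⧸ Q)⁻¹ w) with h | h | h | h <;> rw [h] at e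
    · exact Or.inl (e.trans (map_zero _))
    · exact Or.inr (Or.inl (e.trans hr0))
    · exact Or.inr (Or.inr (Or.inl (e.trans (by rw [xm_comm D ht.2, hr0]))))
    · exact Or.inr (Or.inr (Or.inr (e.trans (by rw [xm_comm D ht.2, xm_comm D ht.2, hr0]))))
  rcases hcases with rfl | rfl
  · have hD1 : ∀ w, ∃ a, nilH m w = D1 C.F a := by
      have k1 : ∀ i, dW (0, 1) i = rW (vBase i) ∧ dW (1, 1) i = rW (rW (vBase i)) ∧
          dW (1, 0) i = vBase i ∧ dW 0 i = 0 := by decide
      intro w
      rcases hmm w with h | h | h | h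
      · exact ⟨0, h.trans (C.F.coord.injective (by
          rw [coord_D1, map_zero]; funext i; exact (k1 i).2.2.2.symm))⟩
      · exact ⟨(1, 0), h.trans (C.F.coord.injective (by
          rw [coord_D1, hr', AddEquiv.apply_symm_apply]; funext i; exact (k1 i).2.2.1.symm))⟩
      · exact ⟨(0, 1), h.trans (C.F.coord.injective (funext fun i => by
          rw [coord_D1]
          refine (C.F.coord_x r' i).trans ?_
          rw [hr', AddEquiv.apply_symm_apply]; exact (k1 i).1.symm))⟩
      · exact ⟨(1, 1), h.trans (C.F.coord.injective (funext fun i => by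
          rw [coord_D1]
          refine (C.F.coord_x _ i).trans ?_
          refine (congrArg rW (C.F.coord_x r' i)).trans ?_
          rw [hr', AddEquiv.apply_symm_apply]; exact (k1 i).2.1.symm))⟩
    have hperp : ∀ w, Perp C.F w → act m w = w := fun w hw => (nilH_eq_zero D).1 (eq_zero_of_bf D fun u => by
      obtain ⟨a, ha⟩ := hD1 u
      rw [nilH_symm D hm2, ha]
      exact polar_perp C.F hw a)
    have hv0 : Perp C.F (v0 C.F) := by
      show C.F.coord (v0 C.F) 0 = C.F.coord (v0 C.F) 1
      rw [coord_v0]; rfl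
    have hP : 5 ∣ Nat.card (stabBase C.F) := by
      rw [card_stabBase C.F C.c D.L_card (fun g w hw => C.act_inA g.1 hw) (fun u w hu hw => (C.orbA u w hu).2 hw)]
      norm_num
    exact hm1 (congrArg Subtype.val (eq_one_of_fix_perp C.F hP (no_five D) (g := ⟨m, hmL⟩)
      (hperp _ hv0) hperp))
  · obtain ⟨hwA, hwB⟩ := Calc.four_witness C.c
    set w := C.F.coord.symm ![0, 0, 0, (1, 0), 0, (1, 0)] with hw
    have hA : C.F.InA C.c w := Or.inl (by rw [hw, AddEquiv.apply_symm_apply]; decide)
    have hA' := C.act_inA m hA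
    rw [show act m w = nilH m w + w by rw [nilH_apply, add_assoc, QV_two D.hS, add_zero]] at hA'
    have hne : nilH m w ≠ 0 := by
      intro h0
      obtain ⟨u, hu⟩ : ∃ u, nilH m u = xm D r' := by
        refine ⟨xm D (act (ht : Cz z ⧸ Q) v), ?_⟩
        rw [nilH_xm D hmL]
        congr 1
        rw [nilH_apply, hm, act_mul D.hS, act_mul D.hS]
        rw [show act (ht : Cz z ⧸ Q)⁻¹ (act (ht : Cz z ⧸ Q) v) = v by
          rw [← act_mul D.hS, inv_mul_cancel, act_one' D], ← map_add]
        exact ht'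
      have h1 := nilH_symm D hm2 w u
      rw [h0, hu, (bf_zero D u).2] at h1
      have h2 : bf D.hS w (xm D r') = 1 := by
        show D.setting.b w (D.setting.φ D.setting.x r') = 1
        rw [polar_eq C.F, Fin.sum_univ_six]
        simp only [C.F.coord_x, hw, hr', AddEquiv.apply_symm_apply]
        decide
      rw [h2] at h1
      exact zero_ne_one h1
    have key : ∀ a : W, a ≠ 0 → Calc.isA C.c (fun i => Calc.mulW a (Calc.fourVec i) +
        (![0, 0, 0, (1, 0), 0, (1, 0)] : Fin 6 → W) i) = false := hwB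
    obtain ⟨a, ha, hcd⟩ : ∃ a : W, a ≠ 0 ∧ C.F.coord (nilH m w) = fun i => Calc.mulW a (Calc.fourVec i) := by
      have k1 : ∀ x : W, Calc.mulW (1, 0) x = x ∧ Calc.mulW (0, 1) x = rW x ∧ Calc.mulW (1, 1) x = rW (rW x) := by
        decide
      rcases hmm w with h | h | h | h
      · exact absurd h hne
      · exact ⟨(1, 0), by decide, by rw [h, hr', AddEquiv.apply_symm_apply]; funext i; exact (k1 _).1.symm⟩
      · refine ⟨(0, 1), by decide, funext fun i => ?_⟩
        rw [h]
        refine (C.F.coord_x r' i).trans ?_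
        rw [hr', AddEquiv.apply_symm_apply]; exact (k1 _).2.1.symm
      · refine ⟨(1, 1), by decide, funext fun i => ?_⟩
        rw [h]
        refine (C.F.coord_x _ i).trans ?_
        refine (congrArg rW (C.F.coord_x r' i)).trans ?_
        rw [hr', AddEquiv.apply_symm_apply]; exact (k1 _).2.2.symm
    have hB := key a ha
    have htrue : Calc.isA C.c (C.F.coord (nilH m w + w)) = true := by
      rcases hA' with h | ⟨h, h'⟩
      · rw [Calc.card_suppW] at h
        simp [Calc.isA, h, -map_add]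
      · rw [Calc.card_suppW] at h
        rw [Calc.classW_eq] at h'
        simp [Calc.isA, h, h', -map_add]
    rw [map_add, hcd, hw, AddEquiv.apply_symm_apply] at htrue
    exact Bool.noConfusion (htrue.symm.trans hB)

end CfsgLib.LargeFischerJ
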