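import Cfsg.Agent.Transfer.Fusion
import Cfsg.Agent.LargeFischerJ.Anchor
import Cfsg.Agent.LargeFischerJ.Count

/-!
The Thompson subgroup of a Sylow two-subgroup of a group of large Fischer type and its normalizer.
-/

set_option autoImplicit false
set_option linter.unusedSectionVars false
set_option linter.style.haveILetI false
set_option maxHeartbeats 1000000

namespace CfsgLib.LargeFischerJ

open Cfsg CfsgLib.LargeFischer

section General

variable {G : Type*} [Group G] [Finite G]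

/-- A subgroup with a unique largest elementary abelian subgroup has it as its Thompson subgroup. -/
theorem thompson_eq {P A : Subgroup G} (hle : A ≤ P) (hA : Cfsg.IsElementaryAbelian 2 A)
    (huniq : ∀ E : Subgroup G, E ≤ P → Cfsg.IsElementaryAbelian 2 E → Nat.card A ≤ Nat.card E → E = A) :
    Cfsg.thompsonSubgroupOf 2 P = A := by
  haveI := hA.1
  have hsub : ∀ E : Subgroup P, Cfsg.IsElementaryAbelian 2 E → Cfsg.IsElementaryAbelian 2 (E.map P.subtype) :=
    fun E hE => by
      haveI := hE.1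
      refine ⟨⟨⟨fun a b => Subtype.ext ?_⟩⟩, ?_⟩
      · obtain ⟨u, hu, eu⟩ := a.2
        obtain ⟨v, hv, ev⟩ := b.2
        show (a : G) * (b : G) = (b : G) * (a : G)
        rw [← eu, ← ev, ← map_mul, ← map_mul]
        exact congrArg _ (congrArg Subtype.val (mul_comm' (⟨u, hu⟩ : E) ⟨v, hv⟩))
      · rintro _ ⟨u, hu, rfl⟩
        rw [← map_pow, hE.2 u hu, map_one]
  have hAel : Cfsg.IsElementaryAbelian 2 (A.subgroupOf P) :=
    ⟨⟨⟨fun a b => Subtype.ext (Subtype.ext
      (congrArg Subtype.val (mul_comm' (⟨_, a.2⟩ : A) ⟨_, b.2⟩) :))⟩⟩,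
      fun a ha => Subtype.ext (by rw [SubgroupClass.coe_pow]; exact hA.2 _ ha)⟩
  have hmax : Cfsg.maxElementaryAbelianSubgroups 2 P = {A.subgroupOf P} := by
    refine Set.eq_singleton_iff_unique_mem.2 ⟨⟨hAel, fun E hE => ?_⟩, fun E hE => ?_⟩
    · rw [Nat.card_congr (Subgroup.subgroupOfEquivOfLe hle).toEquiv,
        Nat.card_congr (Subgroup.equivMapOfInjective E P.subtype (Subgroup.subtype_injective P)).toEquiv]
      by_contra hlt
      push Not at hlt
      have := huniq _ (Subgroup.map_subtype_le E) (hsub E hE) hlt.le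
      rw [this] at hlt
      exact lt_irrefl _ hlt
    · have h := hE.2 _ hAel
      rw [Nat.card_congr (Subgroup.subgroupOfEquivOfLe hle).toEquiv,
        Nat.card_congr (Subgroup.equivMapOfInjective E P.subtype (Subgroup.subtype_injective P)).toEquiv] at h
      have e := huniq _ (Subgroup.map_subtype_le E) (hsub E hE.1) h
      rw [← e, ← Subgroup.comap_subtype, Subgroup.comap_map_eq_self_of_injective (Subgroup.subtype_injective P)]
  rw [Cfsg.thompsonSubgroupOf, Cfsg.thompsonSubgroup, hmax, sSup_singleton,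
    Subgroup.map_subgroupOf_eq_of_le hle]

theorem isElementaryAbelian_map {G' : Type*} [Group G'] {A : Subgroup G} (hA : Cfsg.IsElementaryAbelian 2 A)
    (f : G →* G') : Cfsg.IsElementaryAbelian 2 (A.map f) := by
  haveI := hA.1
  refine ⟨⟨⟨fun a b => Subtype.ext ?_⟩⟩, ?_⟩
  · obtain ⟨u, hu, eu⟩ := a.2
    obtain ⟨v, hv, ev⟩ := b.2
    show (a : G') * (b : G') = (b : G') * (a : G')
    rw [← eu, ← ev, ← map_mul, ← map_mul]
    exact congrArg f (congrArg Subtype.val (mul_comm' (⟨u, hu⟩ : A) ⟨v, hv⟩))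
  · rintro _ ⟨u, hu, rfl⟩
    rw [← map_pow, hA.2 u hu, map_one]

/-- Conjugation carries a quotient to a quotient. -/
theorem quotient_transport {X : Type*} [Mul X] (c : G) {A N : Subgroup G}
    (h : ∃ _ : (A.subgroupOf N).Normal, Nonempty (↥N ⧸ A.subgroupOf N ≃* X)) :
    ∃ _ : ((A.map (MulAut.conj c).toMonoidHom).subgroupOf (N.map (MulAut.conj c).toMonoidHom)).Normal,
      Nonempty (↥(N.map (MulAut.conj c).toMonoidHom) ⧸
        (A.map (MulAut.conj c).toMonoidHom).subgroupOf (N.map (MulAut.conj c).toMonoidHom) ≃* X) := by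
  obtain ⟨hn, ⟨e⟩⟩ := h
  let f : ↥N ≃* ↥(N.map (MulAut.conj c).toMonoidHom) := (MulAut.conj c).subgroupMap N
  have hmap : (A.subgroupOf N).map f.toMonoidHom =
      (A.map (MulAut.conj c).toMonoidHom).subgroupOf (N.map (MulAut.conj c).toMonoidHom) := by
    ext y
    rw [Subgroup.mem_subgroupOf]
    constructor
    · rintro ⟨x, hx, rfl⟩
      exact ⟨_, hx, rfl⟩
    · rintro ⟨a, ha, e⟩
      obtain ⟨x, rfl⟩ := f.surjective y
      have : a = (x : G) := (MulAut.conj c).injective e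
      exact ⟨x, Subgroup.mem_subgroupOf.2 (this ▸ ha), rfl⟩
  haveI hn' : ((A.map (MulAut.conj c).toMonoidHom).subgroupOf (N.map (MulAut.conj c).toMonoidHom)).Normal :=
    hmap ▸ hn.map f.toMonoidHom f.surjective
  exact ⟨hn', ⟨(QuotientGroup.congr _ _ f hmap).symm.trans e⟩⟩

theorem normalizer_map (c : G) (A : Subgroup G) :
    Subgroup.normalizer ((A.map (MulAut.conj c).toMonoidHom : Subgroup G) : Set G) =
      (Subgroup.normalizer (A : Set G)).map (MulAut.conj c).toMonoidHom :=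
  (Subgroup.map_equiv_normalizer_eq A (MulAut.conj c)).symm

theorem mem_conj_map {c a : G} {A : Subgroup G} :
    a ∈ A.map (MulAut.conj c).toMonoidHom ↔ c⁻¹ * a * c ∈ A := by
  constructor
  · rintro ⟨u, hu, rfl⟩
    simpa [mul_assoc] using hu
  · intro h
    exact ⟨_, h, by simp [mul_assoc]⟩

end General

variable {G : Type*} [Group G] [Finite G] {z : G} {Q : Subgroup (Cz z)} [Q.Normal] {D : Data z Q}
  {C : Coords D} {T1 : Sylow 2 (Cz z)} {B : Subgroup (Cz z)}

theorem isConj_iff_inB {q : Q} (hq : q ∉ Subgroup.center Q) (C : Coords D) :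
    IsConj z (toG q) ↔ C.F.InB C.c (vec q) := by
  constructor
  · intro h
    obtain ⟨g, hg⟩ := isConj_iff.1 h
    exact (image_main D hg hq C).1
  · intro hB
    obtain ⟨g, x, hgx, hx⟩ := D.exists_conj
    obtain ⟨hBx, -⟩ := image_main D hgx hx C
    obtain ⟨k, hk⟩ := Coords.conj_of_orbit (D := D) hq ((C.orbB _ _ hBx).2 hB)
    have hk' : (k : G) * toG x * (k : G)⁻¹ = toG q := congrArg Subtype.val hk
    refine isConj_iff.2 ⟨(k : G) * g, ?_⟩
    rw [← hk', ← hgx]
    group

theorem toG_injective : Function.Injective (toG (Q := Q)) :=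
  fun a b h => Subtype.ext (Subtype.ext h)

namespace Anchor

variable (hA : Anchor C T1 B)
include hA

theorem count_conj : Nat.card {q : Q // (q : Cz z) ∈ B ∧ IsConj z (toG q)} = 91 := by
  classical
  have hne1 : ∀ q : Q, IsConj z (toG q) → q ≠ 1 := by
    rintro q h rfl
    obtain ⟨g, hg⟩ := isConj_iff.1 h
    have h1 : z = 1 := conj_eq_one_iff.1 (hg.trans rfl)
    have := D.hS.1
    rw [h1, orderOf_one] at this
    norm_num at this
  let P : Q → Prop := fun q => vec q ∈ planeS C ∧ C.F.InB C.c (vec q)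
  have hzc : zin D.hS ∈ Subgroup.center Q := (mem_center_cases D.hS).2 (Or.inr rfl)
  have key : ∀ q : Q, ((q : Cz z) ∈ B ∧ IsConj z (toG q)) ↔ q = zin D.hS ∨ P q := by
    intro q
    by_cases hq : q ∈ Subgroup.center Q
    · refine ⟨fun h => Or.inl (((mem_center_cases D.hS).1 hq).resolve_left (hne1 q h.2)), fun h => ?_⟩
      rcases h with rfl | h
      · exact ⟨hA.center_mem hzc, IsConj.refl z⟩
      · exact absurd ((vec_eq_zero D.hS).2 hq) (C.ne_zero_of (Or.inr h.2))
    · rw [hA.memQ, isConj_iff_inB hq C]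
      exact ⟨Or.inr, fun h => h.resolve_left fun e => hq (e ▸ hzc)⟩
  have hz : ¬ P (zin D.hS) := fun h => C.ne_zero_of (Or.inr h.2) ((vec_eq_zero D.hS).2 hzc)
  have hP : Nat.card {q : Q // P q} = 90 := by
    let s := Function.surjInv (vec_surjective (Q := Q))
    have hs : ∀ v, vec (s v) = v := Function.surjInv_eq _
    have hzv : vec (zin D.hS) = 0 := (vec_eq_zero D.hS).2 hzc
    let f : {v : QV Q // v ∈ planeS C ∧ C.F.InB C.c v} × Bool → {q : Q // P q} := fun p =>
      ⟨if p.2 then s p.1.1 * zin D.hS else s p.1.1, by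
        have : vec (if p.2 then s p.1.1 * zin D.hS else s p.1.1) = p.1.1 := by
          split_ifs <;> simp [vec_mul, hs, hzv]
        show _ ∧ _
        rw [this]
        exact p.1.2⟩
    have hf : Function.Bijective f := by
      refine ⟨?_, ?_⟩
      · rintro ⟨⟨v, hv⟩, b⟩ ⟨⟨v', hv'⟩, b'⟩ e
        have e' := congrArg Subtype.val e
        have ev := congrArg vec e'
        have hb : ∀ (b : Bool) v, vec (if b then s v * zin D.hS else s v) = v := fun b v => by
          split_ifs <;> simp [vec_mul, hs, hzv]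
        simp only [f] at e' ev
        rw [hb, hb] at ev
        subst ev
        cases b <;> cases b' <;> simp at e' <;> first | rfl | exact absurd e' (zin_ne_one D.hS)
      · rintro ⟨q, hq⟩
        have hc : (s (vec q))⁻¹ * q ∈ Subgroup.center Q := (vec_eq_iff D.hS).1 (hs _)
        rcases (mem_center_cases D.hS).1 hc with e | e
        · exact ⟨(⟨vec q, hq⟩, false), Subtype.ext (inv_mul_eq_one.1 e)⟩
        · exact ⟨(⟨vec q, hq⟩, true), Subtype.ext (inv_mul_eq_iff_eq_mul.1 e).symm⟩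
    rw [← Nat.card_congr (Equiv.ofBijective f hf), Nat.card_prod, (card_classes C).2]
    simp
  rw [Nat.card_congr (Equiv.subtypeEquivRight key)]
  have h := Set.ncard_insert_of_notMem (show zin D.hS ∉ {q | P q} from hz) (Set.toFinite _)
  rw [← Nat.card_coe_set_eq, ← Nat.card_coe_set_eq, show Nat.card ↥{q | P q} = 90 from hP] at h
  exact h

theorem Q_le : Q ≤ (T1 : Subgroup (Cz z)) := by
  have hQp : IsPGroup 2 Q := IsPGroup.of_card (n := 13) (by rw [D.hS.2.2.2.1])
  have hsup : IsPGroup 2 (Q ⊔ (T1 : Subgroup (Cz z)) : Subgroup (Cz z)) := by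
    rw [sup_comm]
    exact T1.isPGroup'.to_sup_of_normal_right hQp
  exact (le_sup_left : Q ≤ _).trans (T1.is_maximal' hsup le_sup_right).le

/-- The Sylow subgroup of the centralizer is a Sylow subgroup of the group. -/
theorem exists_sylow : ∃ S : Sylow 2 G, (S : Subgroup G) = (T1 : Subgroup (Cz z)).map (Cz z).subtype := by
  haveI : Fact (Nat.Prime 2) := ⟨Nat.prime_two⟩
  set P := (T1 : Subgroup (Cz z)).map (Cz z).subtype with hP
  have hPp : IsPGroup 2 P := T1.isPGroup'.map _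
  obtain ⟨S, hS⟩ := hPp.exists_le_sylow
  refine ⟨S, le_antisymm ?_ hS⟩
  by_contra hle
  haveI : Finite (S : Subgroup G) := inferInstance
  haveI := S.isPGroup'.isNilpotent
  have hlt : P.subgroupOf (S : Subgroup G) < ⊤ := lt_top_iff_ne_top.2 fun e => hle (by
    rwa [Subgroup.subgroupOf_eq_top] at e)
  have hn := Group.normalizerCondition_of_isNilpotent (P.subgroupOf (S : Subgroup G)) hlt
  obtain ⟨⟨n, hnS⟩, hnN, hnP⟩ := SetLike.exists_of_lt hn
  have hconj : ∀ u ∈ P, n * u * n⁻¹ ∈ P := fun u hu =>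
    (Subgroup.mem_normalizer_iff.1 hnN ⟨u, hS hu⟩).1 hu
  -- the only involution of the centre
  have hzP : z ∈ P := ⟨_, hA.le (hA.center_mem ((mem_center_cases D.hS).2 (Or.inr rfl))), rfl⟩
  have hnz : n * z * n⁻¹ = z := by
    obtain ⟨t, ht, e⟩ := hconj z hzP
    have hcent : ∀ u ∈ (T1 : Subgroup (Cz z)), t * u = u * t := by
      intro u hu
      refine Subtype.ext ?_
      have hu' : n⁻¹ * (u : G) * n ∈ P := by
        haveI : Fintype P := Fintype.ofFinite _
        obtain ⟨v, hv⟩ := (Finite.injective_iff_surjective.1 (fun a b h => Subtype.ext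
          (mul_left_cancel (mul_right_cancel (congrArg Subtype.val h :))) :
          Function.Injective fun v : P => (⟨n * v.1 * n⁻¹, hconj v.1 v.2⟩ : P))) ⟨u, u, hu, rfl⟩
        rw [show (u : G) = n * v.1 * n⁻¹ from (congrArg Subtype.val hv).symm]
        simpa [mul_assoc] using v.2
      obtain ⟨v, hv, ev⟩ := hu'
      show (t : G) * (u : G) = (u : G) * (t : G)
      rw [show (t : G) = n * z * n⁻¹ from e]
      have hc : z * (n⁻¹ * (u : G) * n) = n⁻¹ * (u : G) * n * z := by
        rw [← ev]; exact (Subgroup.mem_centralizer_singleton_iff.1 v.2).symm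
      calc n * z * n⁻¹ * (u : G) = n * (z * (n⁻¹ * (u : G) * n)) * n⁻¹ := by group
        _ = (u : G) * (n * z * n⁻¹) := by rw [hc]; group
    have htQ : t ∈ Q := mem_of_act_trivial D.hS t fun a => by
      rw [show conjIn t a = a from Subtype.ext (by
        rw [conjIn_coe, hcent _ (hA.Q_le a.2)]; group)]
    have htc : (⟨t, htQ⟩ : Q) ∈ Subgroup.center Q :=
      Subgroup.mem_center_iff.2 fun a => Subtype.ext (hcent _ (hA.Q_le a.2)).symm
    rcases (mem_center_cases D.hS).1 htc with h | h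
    · exfalso
      have h1 : n * z * n⁻¹ = 1 := e.symm.trans (congrArg toG h)
      rw [conj_eq_one_iff] at h1
      have := D.hS.1
      rw [h1, orderOf_one] at this
      norm_num at this
    · exact e.symm.trans (congrArg toG h)
  have hnC : n ∈ Cz z := Subgroup.mem_centralizer_singleton_iff.2 (mul_inv_eq_iff_eq_mul.1 hnz)
  have hbig : IsPGroup 2 ((S : Subgroup G).subgroupOf (Cz z)) :=
    S.isPGroup'.comap_of_injective _ (Cz z).subtype_injective
  have hle1 : (T1 : Subgroup (Cz z)) ≤ (S : Subgroup G).subgroupOf (Cz z) := fun a ha => hS ⟨a, ha, rfl⟩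
  have heq := T1.is_maximal' hbig hle1
  refine hnP (Subgroup.mem_subgroupOf.2 ⟨⟨n, hnC⟩, ?_, rfl⟩)
  rw [← heq]
  exact hnS

theorem elem_A : Cfsg.IsElementaryAbelian 2 (B.map (Cz z).subtype) :=
  isElementaryAbelian_map ⟨⟨⟨fun a b => Subtype.ext (hA.comm _ a.2 _ b.2)⟩⟩, hA.sq⟩ _

theorem card_A : Nat.card (B.map (Cz z).subtype) = 2048 := by
  rw [← Nat.card_congr (Subgroup.equivMapOfInjective B _ (Cz z).subtype_injective).toEquiv, hA.card]

theorem uniq_A {E : Subgroup G} (hE : E ≤ (T1 : Subgroup (Cz z)).map (Cz z).subtype)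
    (hel : Cfsg.IsElementaryAbelian 2 E) (hcard : 2048 ≤ Nat.card E) : E = B.map (Cz z).subtype := by
  haveI := hel.1
  have hEC : E ≤ Cz z := hE.trans (Subgroup.map_subtype_le _)
  have h := hA.uniq (E.subgroupOf (Cz z)) (fun a ha => by
      obtain ⟨u, hu, e⟩ := hE ha
      rwa [← Subtype.ext e])
    (fun a ha b hb => Subtype.ext (congrArg Subtype.val (mul_comm' (⟨_, ha⟩ : E) ⟨_, hb⟩) :))
    (fun a ha => Subtype.ext (by rw [SubgroupClass.coe_pow]; exact hel.2 _ ha))
    (by rw [Nat.card_congr (Subgroup.subgroupOfEquivOfLe hEC).toEquiv]; exact hcard)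
  rw [← h, Subgroup.map_subgroupOf_eq_of_le hEC]

theorem layer : Layer z (B.map (Cz z).subtype) (inG Q) := by
  haveI : Fact (Nat.Prime 2) := ⟨Nat.prime_two⟩
  set A := B.map (Cz z).subtype with hAdef
  have hzB : ((zin D.hS : Q) : Cz z) ∈ B := hA.center_mem ((mem_center_cases D.hS).2 (Or.inr rfl))
  have hzA : z ∈ A := ⟨_, hzB, rfl⟩
  have hzne : z ≠ 1 := fun h => by
    have := D.hS.1
    rw [h, orderOf_one] at this
    norm_num at this
  have hmem : ∀ {a : Cz z}, (a : G) ∈ A ↔ a ∈ B := fun {a} =>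
    ⟨fun ⟨b, hb, e⟩ => Subtype.ext e ▸ hb, fun h => ⟨a, h, rfl⟩⟩
  have hN : Subgroup.normalizer (A : Set G) ⊓ Cz z =
      (Subgroup.normalizer (B : Set (Cz z))).map (Cz z).subtype := by
    ext m
    constructor
    · rintro ⟨hm, hmC⟩
      refine ⟨⟨m, hmC⟩, Subgroup.mem_normalizer_iff.2 fun b => ?_, rfl⟩
      rw [← hmem, ← hmem]
      exact Subgroup.mem_normalizer_iff.1 hm b
    · rintro ⟨h, hh, rfl⟩
      refine ⟨Subgroup.mem_normalizer_iff.2 fun a => ⟨?_, ?_⟩, h.2⟩
      · rintro ⟨b, hb, rfl⟩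
        exact ⟨_, (Subgroup.mem_normalizer_iff.1 hh b).1 hb, rfl⟩
      · rintro ⟨b, hb, e⟩
        refine ⟨h⁻¹ * b * h, (Subgroup.mem_normalizer_iff.1 hh _).2 (by simpa [mul_assoc] using hb), ?_⟩
        rw [map_mul, map_mul, map_inv, e]
        group
  have hfree : ∀ p : ℕ, ∀ n : Cz z, n ∈ Subgroup.normalizer (B : Set (Cz z)) → n ^ p = 1 →
      (∀ b ∈ B, n * b * n⁻¹ * b⁻¹ ∈ Q → b ∈ Q) →
      ∃ g ∈ Subgroup.normalizer (A : Set G) ⊓ Cz z, g ^ p = 1 ∧ ∀ a ∈ A, g * a * g⁻¹ * a⁻¹ ∈ inG Q → a ∈ inG Q := by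
    intro p n hn hp hf
    refine ⟨n, hN.symm ▸ ⟨n, hn, rfl⟩, by rw [← SubgroupClass.coe_pow, hp]; rfl, ?_⟩
    rintro _ ⟨b, hb, rfl⟩ ⟨q, hq, e⟩
    refine ⟨b, hf b hb ?_, rfl⟩
    rwa [show n * b * n⁻¹ * b⁻¹ = q from Subtype.ext e.symm]
  obtain ⟨S, hS⟩ := hA.exists_sylow
  refine
    { elem := hA.elem_A
      cardA := hA.card_A
      z_mem := hzA
      z_ne := hzne
      cent := fun g hg => ?_
      fusion := fun a ha g hga => ?_
      R_le := fun r hr => ?_
      R_normal := fun h hh r hr => inG_conj hh.2 hr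
      z_R := ⟨_, (zin D.hS).2, rfl⟩
      cardN := ?_
      cardAR := ?_
      count := ?_
      swap := ?_
      sixteen := ?_
      five := ?_
      three := ?_ }
  · have hgC : g ∈ Cz z := Subgroup.mem_centralizer_singleton_iff.2 (Subgroup.mem_centralizer_iff.1 hg z hzA).symm
    exact hmem.2 (hA.mem_of_centralizes (w := ⟨g, hgC⟩) fun q hq => Subtype.ext
      (Subgroup.mem_centralizer_iff.1 hg _ (hmem.2 hq)).symm)
  · have hW : Cfsg.IsWeaklyClosed A (S : Subgroup G) := by
      rw [hS]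
      refine ⟨Subgroup.map_mono hA.le, fun c hc => hA.uniq_A hc (isElementaryAbelian_map hA.elem_A _) ?_⟩
      rw [← Nat.card_congr (Subgroup.equivMapOfInjective A _ (MulAut.conj c).injective).toEquiv, hA.card_A]
    haveI := hA.elem_A.1
    have hab : ∀ b ∈ A, A ≤ Subgroup.centralizer ({b} : Set G) := fun b hb c hc =>
      Subgroup.mem_centralizer_singleton_iff.2 (congrArg Subtype.val (mul_comm' (⟨c, hc⟩ : A) ⟨b, hb⟩))
    obtain ⟨m, hm, h⟩ := CfsgLib.Transfer.exists_mem_normalizer_conj_of_weaklyClosed S hW (X := {a}) (g := g) (hab a ha)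
      (by rw [Set.image_singleton]; exact hab _ hga)
    exact ⟨m, hm, h a rfl⟩
  · obtain ⟨q, rfl⟩ := mem_inG.1 hr
    rw [hN]
    refine ⟨q, ?_, rfl⟩
    rw [hA.normalizer_eq, SetLike.mem_coe, Subgroup.mem_comap, QuotientGroup.mk'_apply, (QuotientGroup.eq_one_iff _).2 q.2]
    exact one_mem _
  · rw [hN, ← Nat.card_congr (Subgroup.equivMapOfInjective _ _ (Cz z).subtype_injective).toEquiv,
      hA.card_normalizer]
  · rw [← hA.card_comap]
    refine (Nat.card_congr (Equiv.ofBijective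
      (fun q : B.comap Q.subtype => (⟨toG q.1, hmem.2 q.2, mem_inG.2 ⟨q.1, rfl⟩⟩ : (A ⊓ inG Q : Subgroup G)))
      ⟨fun a b e => Subtype.ext (toG_injective (congrArg Subtype.val e :)), ?_⟩)).symm
    rintro ⟨a, ha, ha'⟩
    obtain ⟨q, rfl⟩ := mem_inG.1 ha'
    exact ⟨⟨q, hmem.1 ha⟩, rfl⟩
  · rw [← hA.count_conj]
    refine (Nat.card_congr (Equiv.ofBijective
      (fun q : {q : Q // (q : Cz z) ∈ B ∧ IsConj z (toG q)} =>
        (⟨toG q.1, ⟨hmem.2 q.2.1, mem_inG.2 ⟨q.1, rfl⟩⟩, q.2.2⟩ : {a : G // a ∈ A ⊓ inG Q ∧ IsConj z a}))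
      ⟨fun a b e => Subtype.ext (toG_injective (congrArg Subtype.val e :)), ?_⟩)).symm
    rintro ⟨a, ⟨ha, ha'⟩, hc⟩
    obtain ⟨q, rfl⟩ := mem_inG.1 ha'
    exact ⟨⟨q, hmem.1 ha, hc⟩, rfl⟩
  · rintro a ⟨-, ha⟩ hne hnz
    obtain ⟨q, rfl⟩ := mem_inG.1 ha
    have hq : q ∉ Subgroup.center Q := fun h => by
      rcases (mem_center_cases D.hS).1 h with rfl | rfl
      · exact hne rfl
      · exact hnz rfl
    obtain ⟨b, hb⟩ := conj_of_vec_eq D.hS hq (show vec q = vec (q * zin D.hS) by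
      rw [vec_mul, (vec_eq_zero D.hS).2 ((mem_center_cases D.hS).2 (Or.inr rfl)), add_zero])
    exact ⟨toG b, mem_inG.2 ⟨b, rfl⟩, congrArg toG hb⟩
  · rintro _ ⟨b, hb, rfl⟩ hbR
    have hbQ : b ∉ Q := fun h => hbR ⟨b, h, rfl⟩
    have h := hA.centralizer_index hb hbQ
    let e : Q ≃* inG Q := Q.equivMapOfInjective (Cz z).subtype (Cz z).subtype_injective
    have he : ((Subgroup.centralizer ({(b : G)} : Set G)).subgroupOf (inG Q)).comap e.toMonoidHom =
        (Subgroup.centralizer ({b} : Set (Cz z))).subgroupOf Q := by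
      ext q
      simp only [Subgroup.mem_comap, Subgroup.mem_subgroupOf, Subgroup.mem_centralizer_singleton_iff]
      exact ⟨fun h => Subtype.ext h, fun h => congrArg Subtype.val h⟩
    rw [← he, Subgroup.index_comap_of_surjective _ e.surjective] at h
    exact h
  · obtain ⟨g, hg, hg5, hgf⟩ := exists_five_fpf C hA.sixteen
    obtain ⟨n, hn, hn5, hnf⟩ := hA.exists_lift 3 (by norm_num) hg hg5 hgf
    exact hfree 5 n hn hn5 hnf
  · obtain ⟨g, hg, hg3, hgf⟩ := exists_three_fpf C hA.sixteen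
    obtain ⟨n, hn, hn3, hnf⟩ := hA.exists_lift 2 (by norm_num) hg hg3 hgf
    exact hfree 3 n hn hn3 hnf

end Anchor

/-- The Thompson subgroup of any Sylow subgroup is conjugate to that of the anchored one. -/
theorem exists_setup (hF : IsOfLargeFischerTypeAt z Q) (T : Sylow 2 G) :
    ∃ (A₀ : Subgroup G) (R : Subgroup G) (c : G), Layer z A₀ R ∧
      Cfsg.thompsonSubgroupOf 2 (T : Subgroup G) = A₀.map (MulAut.conj c).toMonoidHom := by
  obtain ⟨D⟩ := exists_data hF
  obtain ⟨C, T1, B, hA⟩ := exists_anchor D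
  haveI : Fact (Nat.Prime 2) := ⟨Nat.prime_two⟩
  obtain ⟨S, hS⟩ := hA.exists_sylow
  obtain ⟨c, hc⟩ := MulAction.exists_smul_eq G S T
  refine ⟨B.map (Cz z).subtype, inG Q, c, hA.layer, ?_⟩
  have hT : (T : Subgroup G) = (S : Subgroup G).map (MulAut.conj c).toMonoidHom := by rw [← hc]; rfl
  rw [hT, hS]
  refine thompson_eq (Subgroup.map_mono (Subgroup.map_mono hA.le)) (isElementaryAbelian_map hA.elem_A _)
    fun E hE hel hcard => ?_
  rw [← Nat.card_congr (Subgroup.equivMapOfInjective _ _ (MulAut.conj c).injective).toEquiv, hA.card_A] at hcard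
  have h := hA.uniq_A (E := E.map (MulAut.conj c⁻¹).toMonoidHom) (fun a ha => by
      obtain ⟨u, hu, rfl⟩ := ha
      have := mem_conj_map.1 (hE hu)
      simpa [mul_assoc] using this) (isElementaryAbelian_map hel _)
    (by rw [← Nat.card_congr (Subgroup.equivMapOfInjective E _ (MulAut.conj c⁻¹).injective).toEquiv]; exact hcard)
  rw [← h, Subgroup.map_map]
  have hid : (MulAut.conj c).toMonoidHom.comp (MulAut.conj c⁻¹).toMonoidHom = MonoidHom.id G :=
    MonoidHom.ext fun a => by simp [mul_assoc]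
  rw [hid, Subgroup.map_id]

end CfsgLib.LargeFischerJ
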