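import Cfsg.Agent.LargeFischer.StabAct
import Cfsg.Agent.LargeFischerJ.Linear

/-!
The plane of pairs of the module: its pointwise stabiliser is an explicit group of order sixteen, its orbit has
length 567, and its stabiliser contains elements of orders three and five fixing no non-trivial element of the
pointwise stabiliser.
-/

set_option autoImplicit false
set_option linter.unusedSectionVars false
set_option linter.style.haveILetI false
set_option maxHeartbeats 1000000

namespace CfsgLib.LargeFischerJ

open Cfsg CfsgLib.LargeFischer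

theorem sums_add (u w : Calc.Vec) : Calc.sums (u + w) = Calc.sums u + Calc.sums w := by
  simp only [Calc.sums, Pi.add_apply, Prod.mk_add_mk]
  ext <;> abel

theorem herm_add (cd : Calc.Code) (s t : W × W × W) : Calc.herm cd (s + t) = Calc.herm cd s + Calc.herm cd t := by
  simp only [Calc.herm, Prod.fst_add, Prod.snd_add, (Calc.mulW_add _ _ _).2, Prod.mk_add_mk]
  ext <;> abel

theorem pairs_add (s t : W × W × W) : Calc.pairs (s + t) = Calc.pairs s + Calc.pairs t := by
  funext i
  fin_cases i <;> rfl

theorem nil_add (cd : Calc.Code) (u w : Calc.Vec) : Calc.nil cd (u + w) = Calc.nil cd u + Calc.nil cd w := by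
  rw [Calc.nil, Calc.nil, Calc.nil, sums_add, herm_add, pairs_add]

theorem sums_pairs (t : W × W × W) : Calc.sums (Calc.pairs t) = 0 := by
  have h : ∀ a : W, a + a = 0 := by decide
  ext1
  · exact h _
  · ext1
    · exact h _
    · exact h _

theorem herm_zero : ∀ cd : Calc.Code, Calc.herm cd 0 = 0 := by
  intro cd
  have h := herm_add cd 0 0
  rw [add_zero] at h
  exact left_eq_add.1 h

theorem nil_nil (p q : Calc.Code) (w : Calc.Vec) : Calc.nil p (Calc.nil q w) = 0 := by
  rw [Calc.nil, Calc.nil, sums_pairs, herm_zero]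
  funext i
  fin_cases i <;> rfl

theorem code_two : ∀ p : Calc.Code, p + p = 0 := by
  intro p
  have h : ∀ a : ZMod 2, a + a = 0 := by decide
  have h' : ∀ a : W, a + a = 0 := by decide
  ext <;> first | exact h _ | exact congrArg Prod.fst (h' _) | exact congrArg Prod.snd (h' _)

variable {G : Type*} [Group G] [Finite G] {z : G} {Q : Subgroup (Cz z)} [Q.Normal] {D : Data z Q}
variable (C : Coords D)

/-- The plane of pairs. -/
def planeS : AddSubgroup (QV Q) where
  carrier := {v | Calc.InU (C.F.coord v)}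
  zero_mem' := by show Calc.InU (C.F.coord 0); rw [map_zero]; exact ⟨rfl, rfl, rfl⟩
  add_mem' := fun {a b} ha hb => by
    show Calc.InU (C.F.coord (a + b))
    rw [map_add]
    simp only [Calc.InU, Pi.add_apply]
    exact ⟨by rw [ha.1, hb.1], by rw [ha.2.1, hb.2.1], by rw [ha.2.2, hb.2.2]⟩
  neg_mem' := fun {a} ha => by
    show Calc.InU (C.F.coord (-a))
    rw [neg_eq_of_add_eq_zero_left (QV_two D.hS a)]
    exact ha

theorem mem_planeS {v : QV Q} : v ∈ planeS C ↔ Calc.InU (C.F.coord v) := Iff.rfl

theorem planeS_pairs (t : W × W × W) : C.F.coord.symm (Calc.pairs t) ∈ planeS C := by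
  rw [mem_planeS, AddEquiv.apply_symm_apply]
  exact Calc.inU_pairs t

/-- Parametrisation of the plane. -/
noncomputable def planeEquiv : W × W × W ≃ planeS C where
  toFun t := ⟨C.F.coord.symm (Calc.pairs t), planeS_pairs C t⟩
  invFun v := (C.F.coord v.1 0, C.F.coord v.1 2, C.F.coord v.1 4)
  left_inv t := by
    simp only [AddEquiv.apply_symm_apply]
    rfl
  right_inv v := Subtype.ext (C.F.coord.injective (by
    rw [AddEquiv.apply_symm_apply]
    exact Calc.pairs_of_inU v.2))

theorem card_planeS : Nat.card (planeS C) = 64 := by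
  rw [← Nat.card_congr (planeEquiv C), Nat.card_eq_fintype_card]
  rfl

theorem qf_coord (v : QV Q) : qf D.hS v = Calc.par (C.F.coord v) := by
  show D.setting.q v = _
  rw [q_eq C.F, Fin.sum_univ_six]
  rfl

theorem bf_coord (u w : QV Q) : bf D.hS u w = Calc.bV (C.F.coord u) (C.F.coord w) := by
  show D.setting.b u w = _
  rw [polar_eq C.F, Fin.sum_univ_six]
  rfl

theorem inA_iff (v : QV Q) : C.F.InA C.c v ↔ Calc.isA C.c (C.F.coord v) = true := by
  simp only [Frame.InA, Calc.isA, Calc.card_suppW, Calc.classW_eq, Bool.or_eq_true, Bool.and_eq_true, beq_iff_eq]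

theorem coord_xm (v : QV Q) : C.F.coord (xm D v) = Calc.scal (C.F.coord v) := funext fun i => C.F.coord_x v i

theorem planeS_xm : XStable D (planeS C) := fun v hv => by
  rw [mem_planeS, coord_xm]
  exact ⟨congrArg rW hv.1, congrArg rW hv.2.1, congrArg rW hv.2.2⟩

/-- The pointwise stabiliser. -/
def K0 : Subgroup (Cz z ⧸ Q) where
  carrier := {h | ∀ v ∈ planeS C, act h v = v}
  one_mem' := fun v _ => act_one' D v
  mul_mem' := fun {a b} ha hb v hv => by rw [act_mul D.hS, hb v hv, ha v hv]
  inv_mem' := fun {a} ha v hv => (act a).injective (by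
    rw [← act_mul D.hS, mul_inv_cancel, act_one' D, ha v hv])

theorem mem_K0 {h : Cz z ⧸ Q} : h ∈ K0 C ↔ ∀ v ∈ planeS C, act h v = v := Iff.rfl

theorem K0_le : K0 C ≤ D.L := by
  intro h hh
  by_contra hL
  obtain ⟨u, hu⟩ : ∃ u, u = C.F.coord.symm (Calc.pairs ((1, 0), 0, 0)) := ⟨_, rfl⟩
  have hmem : u ∈ planeS C := hu ▸ planeS_pairs C _
  have h1 := xm_twist D hL u
  rw [hh u hmem, hh _ (planeS_xm C u hmem)] at h1
  have h2 : xm D u = u := by
    conv_rhs => rw [← xm_three D u]
    conv_lhs => rw [h1]
    rw [← h1]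
    exact h1
  have h3 := congrArg (fun v => C.F.coord v 0) (xm_fix D h2)
  rw [hu, AddEquiv.apply_symm_apply, map_zero] at h3
  exact absurd h3 (by decide)

theorem exists_code_of_mem (k : K0 C) :
    ∃ cd : Calc.Code, ∀ v, C.F.coord (act (k : Cz z ⧸ Q) v) = C.F.coord v + Calc.nil cd (C.F.coord v) := by
  obtain ⟨cd, hcd⟩ := Calc.exists_code (C.cact k.1) (C.cact_scal (K0_le C k.2)) (C.cact_par k.1) (fun t => by
    have h := k.2 _ (planeS_pairs C t)
    have h' := C.cact_coord k.1 (C.F.coord.symm (Calc.pairs t))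
    rw [h, AddEquiv.apply_symm_apply] at h'
    exact h')
  exact ⟨cd, fun v => by rw [← C.cact_coord]; exact hcd _⟩

/-- The code of an element of the pointwise stabiliser. -/
noncomputable def codeOf (k : K0 C) : Calc.Code := (exists_code_of_mem C k).choose

theorem codeOf_spec (k : K0 C) (v : QV Q) :
    C.F.coord (act (k : Cz z ⧸ Q) v) = C.F.coord v + Calc.nil (codeOf C k) (C.F.coord v) :=
  (exists_code_of_mem C k).choose_spec v

theorem coord_nilH (k : K0 C) (v : QV Q) :
    C.F.coord (nilH (k : Cz z ⧸ Q) v) = Calc.nil (codeOf C k) (C.F.coord v) := by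
  rw [nilH_apply, map_add, codeOf_spec, add_comm (C.F.coord v), add_assoc, ← map_add, QV_two D.hS, map_zero,
    add_zero]

theorem code_unique {k : K0 C} {p : Calc.Code}
    (h : ∀ v, C.F.coord (act (k : Cz z ⧸ Q) v) = C.F.coord v + Calc.nil p (C.F.coord v)) : codeOf C k = p := by
  have h0 : codeOf C k + p = 0 := Calc.nil_injective _ fun i => by
    obtain ⟨v, hv⟩ := C.F.coord.surjective (Pi.single i (1, 0))
    have e := (codeOf_spec C k v).symm.trans (h v)
    rw [add_left_cancel_iff] at e
    rw [Calc.nil_code_add, ← hv, e]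
    funext j
    have h2 : ∀ a : W, a + a = 0 := by decide
    exact h2 _
  calc codeOf C k = codeOf C k + (p + p) := by rw [code_two, add_zero]
    _ = p := by rw [← add_assoc, h0, zero_add]

theorem codeOf_mul (a b : K0 C) : codeOf C (a * b) = codeOf C a + codeOf C b := by
  refine code_unique C fun v => ?_
  rw [Subgroup.coe_mul, act_mul D.hS, codeOf_spec C a, codeOf_spec C b, nil_add, nil_nil, add_zero,
    Calc.nil_code_add]
  abel

theorem codeOf_one : codeOf C 1 = 0 := code_unique C fun v => by
  rw [Subgroup.coe_one, act_one' D]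
  have : Calc.nil (0 : Calc.Code) (C.F.coord v) = 0 := by
    have h := Calc.nil_code_add (0 : Calc.Code) 0 (C.F.coord v)
    rw [add_zero] at h
    exact left_eq_add.1 h
  rw [this, add_zero]

theorem codeOf_injective : Function.Injective (codeOf C) := fun a b h => Subtype.ext (by
  refine inv_mul_eq_one.1 (act_faithful D.hS _ fun v => ?_)
  rw [act_mul D.hS]
  have e : act (b : Cz z ⧸ Q) v = act (a : Cz z ⧸ Q) v := C.F.coord.injective (by
    rw [codeOf_spec, codeOf_spec, h])
  rw [e, ← act_mul D.hS, inv_mul_cancel, act_one' D])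

theorem K0_sq (k : K0 C) : (k : Cz z ⧸ Q) * k = 1 := by
  have h : k * k = 1 := codeOf_injective C (by rw [codeOf_mul, codeOf_one, code_two])
  exact congrArg Subtype.val h

theorem codeOf_all (k : K0 C) : codeOf C k ∈ Calc.allList C.c := by
  refine Calc.good_code _ _ (List.all_eq_true.2 fun w hw => ?_)
  obtain ⟨v, rfl⟩ := C.F.coord.surjective w
  have h2 : (suppW (C.F.coord v)).card = 2 := by
    rw [Calc.card_suppW]
    exact beq_iff_eq.1 (List.all_eq_true.1 Calc.twos_ok _ hw)
  rw [← codeOf_spec]
  exact (inA_iff C _).1 (C.act_inA k.1 (Or.inl h2))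

theorem card_range_le (k : K0 C) : Nat.card (nilH (Q := Q) (k : Cz z ⧸ Q)).range ≤
    (Finset.univ.image fun s : W × W × W => Calc.herm (codeOf C k) s).card := by
  rw [← Nat.card_eq_finsetCard]
  refine Nat.card_le_card_of_injective (fun r => ⟨(C.F.coord r.1 0, C.F.coord r.1 2, C.F.coord r.1 4), ?_⟩) ?_
  · obtain ⟨v, hv⟩ := r.2
    rw [← hv, coord_nilH]
    exact Finset.mem_image.2 ⟨Calc.sums (C.F.coord v), Finset.mem_univ _, rfl⟩
  · intro a b h
    have hab : ∀ r : (nilH (Q := Q) (k : Cz z ⧸ Q)).range, C.F.coord r.1 =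
        Calc.pairs (C.F.coord r.1 0, C.F.coord r.1 2, C.F.coord r.1 4) := fun r => by
      obtain ⟨v, hv⟩ := r.2
      rw [← hv, coord_nilH]
      exact (Calc.pairs_of_inU (Calc.inU_pairs _)).symm
    exact Subtype.ext (C.F.coord.injective
      ((hab a).trans ((congrArg Calc.pairs (congrArg Subtype.val h :)).trans (hab b).symm)))

theorem codeOf_not_trans (k : K0 C) : codeOf C k ∉ Calc.transList C.c := by
  intro ht
  obtain ⟨hne, hsm⟩ := Calc.trans_small C.c _ ht
  have h1 := no_transvection D C (K0_le C k.2) (K0_sq C k) ((card_range_le C k).trans hsm)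
  refine hne ?_
  rw [show k = 1 from Subtype.ext h1, codeOf_one]

theorem card_range_ge (k : K0 C) : (Finset.univ.image fun s : W × W × W => Calc.herm (codeOf C k) s).card ≤
    Nat.card (nilH (Q := Q) (k : Cz z ⧸ Q)).range := by
  rw [← Nat.card_eq_finsetCard]
  refine Nat.card_le_card_of_injective (fun t => (⟨C.F.coord.symm (Calc.pairs t.1), ?_⟩ :
    (nilH (Q := Q) (k : Cz z ⧸ Q)).range)) ?_
  · obtain ⟨s, -, hs⟩ := Finset.mem_image.1 t.2
    refine ⟨C.F.coord.symm ![s.1, 0, s.2.1, 0, s.2.2, 0], C.F.coord.injective ?_⟩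
    rw [coord_nilH, AddEquiv.apply_symm_apply, AddEquiv.apply_symm_apply, ← hs, Calc.nil, Calc.exists_sums]
  · intro a b h
    exact Subtype.ext (Calc.pairs_inj (C.F.coord.symm.injective (congrArg Subtype.val h)))

variable (h16 : 16 ≤ Nat.card (K0 C))
include h16

/-- The pointwise stabiliser is the explicit group of order sixteen. -/
theorem card_K0_and_codes : Nat.card (K0 C) = 16 ∧ ∀ p, (∃ k, codeOf C k = p) ↔ p ∈ Calc.evenList C.c := by
  classical
  haveI : Fintype (K0 C) := Fintype.ofFinite _
  set S : Finset Calc.Code := Finset.univ.image (codeOf C) with hS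
  have hScard : S.card = Nat.card (K0 C) := by
    rw [hS, Finset.card_image_of_injective _ (codeOf_injective C), Finset.card_univ, Nat.card_eq_fintype_card]
  obtain ⟨hlen, hall, hclosed, htall, -⟩ := Calc.even_facts C.c
  set A := (Calc.allList C.c).toFinset with hA
  have hSA : S ⊆ A := fun p hp => by
    obtain ⟨k, -, rfl⟩ := Finset.mem_image.1 hp
    exact List.mem_toFinset.2 (codeOf_all C k)
  have hSadd : ∀ p ∈ S, ∀ q ∈ S, p + q ∈ S := fun p hp q hq => by
    obtain ⟨a, -, rfl⟩ := Finset.mem_image.1 hp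
    obtain ⟨b, -, rfl⟩ := Finset.mem_image.1 hq
    exact Finset.mem_image.2 ⟨a * b, Finset.mem_univ _, codeOf_mul C a b⟩
  have hST : ∀ t ∈ Calc.transList C.c, t ∉ S := fun t ht hts => by
    obtain ⟨k, -, rfl⟩ := Finset.mem_image.1 hts
    exact codeOf_not_trans C k ht
  have hA32 : A.card ≤ 32 := (Calc.allList C.c).toFinset_card_le.trans hall.le
  have hkey : ∀ t ∈ Calc.transList C.c, S.card ≤ 16 ∧ ∀ p ∈ A, p ∈ S ∨ p + t ∈ S := by
    intro t ht
    have hdis : Disjoint S (S.image (· + t)) := by
      rw [Finset.disjoint_left]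
      intro a ha hb
      obtain ⟨b, hb', rfl⟩ := Finset.mem_image.1 hb
      refine hST t ht ?_
      have := hSadd _ ha _ hb'
      rwa [add_comm b, add_assoc, code_two, add_zero] at this
    have hsub : S ∪ S.image (· + t) ⊆ A := Finset.union_subset hSA fun p hp => by
      obtain ⟨b, hb, rfl⟩ := Finset.mem_image.1 hp
      exact List.mem_toFinset.2 (hclosed _ (List.mem_toFinset.1 (hSA hb)) _ (htall t ht))
    have hc := Finset.card_le_card hsub
    rw [Finset.card_union_of_disjoint hdis, Finset.card_image_of_injective _ (add_left_injective t)] at hc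
    refine ⟨by omega, fun p hp => ?_⟩
    have heq := Finset.eq_of_subset_of_card_le hsub (by
      rw [Finset.card_union_of_disjoint hdis, Finset.card_image_of_injective _ (add_left_injective t)]
      omega)
    rw [← heq] at hp
    rcases Finset.mem_union.1 hp with h | h
    · exact Or.inl h
    · obtain ⟨b, hb, rfl⟩ := Finset.mem_image.1 h
      right
      rw [add_assoc, code_two, add_zero]
      exact hb
  have ht0 : ((1, 0, 0), 0) ∈ Calc.transList C.c := List.mem_append_left _ (List.mem_cons_self)
  have h16' : S.card = 16 := le_antisymm (hkey _ ht0).1 (hScard ▸ h16)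
  have hEsub : (Calc.evenList C.c).toFinset ⊆ S := by
    intro p hp
    rw [List.mem_toFinset, Calc.evenList, List.mem_dedup, List.mem_flatMap] at hp
    obtain ⟨t, ht, hp⟩ := hp
    obtain ⟨u, hu, rfl⟩ := List.mem_map.1 hp
    have h := ((hkey t ht).2 u (List.mem_toFinset.2 (htall u hu))).resolve_left (hST u hu)
    rwa [add_comm] at h
  have hE : (Calc.evenList C.c).toFinset = S := Finset.eq_of_subset_of_card_le hEsub (by
    rw [List.toFinset_card_of_nodup (show (Calc.evenList C.c).Nodup from List.nodup_dedup _), hlen, h16'])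
  refine ⟨hScard ▸ h16', fun p => ?_⟩
  rw [← List.mem_toFinset, hE, hS, Finset.mem_image]
  exact ⟨fun ⟨k, hk⟩ => ⟨k, Finset.mem_univ _, hk⟩, fun ⟨k, _, hk⟩ => ⟨k, hk⟩⟩

theorem card_K0 : Nat.card (K0 C) = 16 := (card_K0_and_codes C h16).1

/-- Every non-trivial element moves the module into a group of order at least sixteen. -/
theorem sixteen_le_range {k : K0 C} (hk : k ≠ 1) : 16 ≤ Nat.card (nilH (Q := Q) (k : Cz z ⧸ Q)).range :=
  (Calc.even_large C.c _ ((((card_K0_and_codes C h16).2 _).1 ⟨k, rfl⟩)) fun e =>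
    hk (codeOf_injective C (e.trans (codeOf_one C).symm))).trans (card_range_ge C k)

end CfsgLib.LargeFischerJ
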